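import Groth.Agent.SmSect.Basic
import Groth.Agent.DenseFinite.Main
import Groth.Agent.SpecialExt.Basic
import Groth.Agent.Unirat.PicTransl
import Groth.Agent.SubGen.AlgClosed
import Groth.Agent.SchDescent.FiniteFlat
import Groth.Agent.FpqcDescent.Props

/-!
# Finite étale multisections of homogeneous bundles
-/

set_option autoImplicit false
set_option linter.style.haveILetI false
set_option backward.isDefEq.respectTransparency false
set_option backward.isDefEq.respectTransparency.types false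
set_option maxHeartbeats 1000000

universe u

open CategoryTheory CategoryTheory.Limits MonoidalCategory CartesianMonoidalCategory GrpObj AlgebraicGeometry
open scoped CategoryTheory.MonObj
open Groth.Agent.SubGen (rpt exists_rpt map_rpt)

noncomputable section

namespace Groth.Agent.Assoc2

/-- Locally on the base there are sections over finite étale coverings. -/
def FinEtSec {X Y : Scheme.{u}} (f : X ⟶ Y) : Prop :=
  ∀ y : Y, ∃ (U : Y.Opens) (U' : Scheme.{u}) (q : U' ⟶ U.toScheme) (t : U' ⟶ X),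
    y ∈ U ∧ IsAffineOpen U ∧ IsFinite q ∧ Etale q ∧ Surjective q ∧ t ≫ f = q ≫ U.ι

/-- A smooth surjection onto a nonempty separated scheme has a finite étale multisection somewhere. -/
theorem exists_finEt_piece {X Y : Scheme.{u}} (p : X ⟶ Y) [Smooth p] [Surjective p] [Nonempty Y]
    [Y.IsSeparated] :
    ∃ (N : Y.Opens) (U' : Scheme.{u}) (q : U' ⟶ N.toScheme) (t : U' ⟶ X),
      (N : Set Y).Nonempty ∧ IsFinite q ∧ Etale q ∧ Surjective q ∧ t ≫ p = q ≫ N.ι := by
  obtain ⟨x, -⟩ := p.surjective (Classical.arbitrary Y)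
  obtain ⟨S', g, s', hg, -, h, hh⟩ := SmSect.exists_etale_section p x
  haveI := hg
  obtain ⟨W, hW, hsW, -⟩ := exists_isAffineOpen_mem_and_subset (X := S') (x := s') (U := ⊤) trivial
  haveI : IsAffine (W : Scheme.{u}) := hW
  let g₁ := W.ι ≫ g
  haveI : QuasiCompact g₁ := by
    haveI : QuasiSeparated (terminal.from Y) := inferInstance
    exact QuasiCompact.of_comp g₁ (terminal.from Y)
  haveI : LocallyQuasiFinite g₁ := FpqcDescent.locallyQuasiFinite_of_etale _
  obtain ⟨V, hVO, hVne, hVf⟩ := DenseFinite.exists_isFinite_restrict g₁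
    (O := ⟨Set.range g₁, g₁.isOpenMap.isOpen_range⟩) ⟨g₁ ⟨s', hsW⟩, Set.mem_range_self _⟩
  haveI := hVf
  refine ⟨V, _, g₁ ∣_ V, (g₁ ⁻¹ᵁ V).ι ≫ W.ι ≫ h, hVne, hVf, inferInstance, ⟨fun z => ?_⟩, ?_⟩
  · obtain ⟨w, hw⟩ := hVO z.2
    have hw' : w ∈ g₁ ⁻¹ᵁ V := show g₁ w ∈ V by rw [hw]; exact z.2
    refine ⟨⟨w, hw'⟩, Subtype.ext ?_⟩
    exact (congr($(morphismRestrict_ι g₁ V) ⟨w, hw'⟩)).trans hw
  · rw [morphismRestrict_ι]
    simp only [Category.assoc, hh, g₁]

variable {k : Type u} [Field k] [IsAlgClosed k]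

/-- **A group over an algebraically closed field has multisections over every quotient by a smooth subgroup.** -/
theorem finEtSec_quotient {F G Q : Over (Spec (CommRingCat.of k))} [GrpObj F] [GrpObj G]
    [LocallyOfFiniteType G.hom] [QuasiCompact G.hom] [IsSeparated Q.hom] [LocallyOfFiniteType Q.hom]
    (u : F ⟶ G) [IsMonHom u] (p : G ⟶ Q) [Smooth p.left] [Surjective p.left]
    (hsq : IsPullback ((u ▷ G) ≫ μ[G]) (snd F G) p p) : FinEtSec p.left := by
  haveI : QuasiCompact p.left := by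
    haveI : QuasiCompact (p.left ≫ Q.hom) := by rw [Over.w p]; infer_instance
    exact QuasiCompact.of_comp p.left Q.hom
  haveI : Q.left.IsSeparated := ⟨by rw [← terminal.comp_from Q.hom]; infer_instance⟩
  haveI : Nonempty Q.left := ⟨p.left (η[G].left (IsLocalRing.closedPoint k))⟩
  haveI : JacobsonSpace Q.left := LocallyOfFiniteType.jacobsonSpace Q.hom
  haveI : JacobsonSpace G.left := LocallyOfFiniteType.jacobsonSpace G.hom
  -- right translations
  let R : (𝟙_ (Over (Spec (CommRingCat.of k))) ⟶ G) → (G ⟶ G) := fun g => 𝟙 G * (toUnit G ≫ g)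
  have hR : ∀ {T : Over (Spec (CommRingCat.of k))} (z : T ⟶ G) (g : 𝟙_ (Over (Spec (CommRingCat.of k))) ⟶ G),
      z ≫ R g = z * (toUnit T ≫ g) := fun z g => by
    simp only [R, MonObj.comp_mul, Category.comp_id]
    rw [← Category.assoc, toUnit_unique (z ≫ toUnit G) (toUnit _)]
  have hμ : ∀ {T : Over (Spec (CommRingCat.of k))} (h : T ⟶ F) (z : T ⟶ G),
      lift h z ≫ (u ▷ G) ≫ μ[G] = (h ≫ u) * z := fun h z => by
    rw [← Category.assoc, lift_whiskerRight, Hom.mul_def]
  have hex : ∀ g, ∃ τ : Q ⟶ Q, p ≫ τ = R g ≫ p := fun g =>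
    SpecialExt.exists_desc p (R g ≫ p) fun U z z' hz => by
      obtain ⟨l, h1, h2⟩ := hsq.exists_lift z z' hz
      have hl : l = lift (l ≫ fst F G) z' :=
        CartesianMonoidalCategory.hom_ext _ _ (by simp) (by simp [h2])
      rw [hl, hμ] at h1
      have hw : ((l ≫ fst F G ≫ u) * (z' * (toUnit U ≫ g))) ≫ p = (z' * (toUnit U ≫ g)) ≫ p := by
        rw [← Category.assoc l, ← hμ, Category.assoc, hsq.w, lift_snd_assoc]
      rw [← Category.assoc, hR, ← Category.assoc, hR, ← h1, _root_.mul_assoc, Category.assoc l]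
      exact hw
  choose τ hτ using hex
  have hτmul : ∀ g g', τ g ≫ τ g' = τ (g * g') := fun g g' => by
    refine SpecialExt.cancel_cover p ?_
    rw [reassoc_of% (hτ g), hτ g', hτ (g * g'), ← Category.assoc, hR]
    simp only [R, MonObj.comp_mul, Category.assoc, _root_.mul_assoc]
  have hτone : τ 1 = 𝟙 Q := by
    refine SpecialExt.cancel_cover p ?_
    rw [hτ, Category.comp_id]
    simp only [R, MonObj.comp_one, _root_.mul_one, Category.id_comp]
  -- a piece, moved around
  obtain ⟨N, U₁, q, t, hN, hq1, hq2, hq3, hqt⟩ := exists_finEt_piece p.left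
  let O : Q.left.Opens := ⨆ g, (τ g).left ⁻¹ᵁ N
  have hO : ∀ z ∈ closedPoints Q.left, z ∈ O := fun z hz => by
    obtain ⟨w, hw, hwc⟩ := nonempty_inter_closedPoints (Z := p.left ⁻¹' {z})
      (by obtain ⟨w, hw⟩ := p.left.surjective z; exact ⟨w, hw⟩)
      (hz.preimage p.left.continuous).isLocallyClosed
    obtain ⟨h, rfl⟩ := exists_rpt hwc
    obtain ⟨m, hm⟩ := Unirat.exists_rp_mem_open (p.left ⁻¹ᵁ N) (by
      obtain ⟨n, hn⟩ := hN
      obtain ⟨w', hw'⟩ := p.left.surjective n
      exact ⟨w', show p.left w' ∈ N by rw [hw']; exact hn⟩)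
    refine TopologicalSpace.Opens.mem_iSup.2 ⟨h⁻¹ * m, ?_⟩
    show (τ _).left z ∈ N
    rw [show z = p.left (rpt h) from hw.symm, map_rpt, map_rpt, Category.assoc, hτ, ← Category.assoc, hR,
      toUnit_unique (toUnit (𝟙_ (Over (Spec (CommRingCat.of k))))) (𝟙 _), Category.id_comp, mul_inv_cancel_left,
      ← map_rpt]
    exact hm
  intro y
  have hy : y ∈ O := by
    by_contra hy
    obtain ⟨z, hz, hzc⟩ := nonempty_inter_closedPoints (Z := (O : Set Q.left)ᶜ) ⟨y, hy⟩
      O.2.isClosed_compl.isLocallyClosed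
    exact hz (hO z hzc)
  obtain ⟨g, hg⟩ := TopologicalSpace.Opens.mem_iSup.1 hy
  obtain ⟨U, hU, hyU, hUN⟩ := exists_isAffineOpen_mem_and_subset (X := Q.left) (x := y)
    (U := (τ g).left ⁻¹ᵁ N) hg
  let c : U.toScheme ⟶ N.toScheme := IsOpenImmersion.lift N.ι (U.ι ≫ (τ g).left) (by
    rw [Scheme.Opens.range_ι]
    rintro _ ⟨w, rfl⟩
    exact hUN w.2)
  have hc : c ≫ N.ι = U.ι ≫ (τ g).left := IsOpenImmersion.lift_fac _ _ _
  let t₁ : Over.mk (pullback.fst c q ≫ U.ι ≫ Q.hom) ⟶ G := Over.homMk (pullback.snd c q ≫ t) (by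
    show (pullback.snd c q ≫ t) ≫ G.hom = pullback.fst c q ≫ U.ι ≫ Q.hom
    rw [← Over.w p, Category.assoc, reassoc_of% hqt, ← pullback.condition_assoc, reassoc_of% hc, Over.w])
  refine ⟨U, _, pullback.fst c q, (t₁ ≫ R g⁻¹).left, hyU, hU, inferInstance, inferInstance, inferInstance, ?_⟩
  have e : t₁.left ≫ p.left = pullback.fst c q ≫ U.ι ≫ (τ g).left := by
    show (pullback.snd c q ≫ t) ≫ p.left = _
    rw [Category.assoc, hqt, ← pullback.condition_assoc, hc]
  rw [← Over.comp_left, Category.assoc, ← hτ, Over.comp_left, Over.comp_left, reassoc_of% e, ← Over.comp_left,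
    hτmul, mul_inv_cancel, hτone, Over.id_left, Category.comp_id]

end Groth.Agent.Assoc2
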