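import Groth.Agent.SchDescent.FiniteFlat
import Groth.Agent.SchDescent.PullEquiv
import Groth.Agent.Assoc2.Multisection

/-!
# Effective descent along morphisms with finite étale multisections
-/

set_option autoImplicit false
set_option linter.style.haveILetI false
set_option backward.isDefEq.respectTransparency false
set_option backward.isDefEq.respectTransparency.types false
set_option maxHeartbeats 1000000

universe u

open CategoryTheory CategoryTheory.Limits AlgebraicGeometry

noncomputable section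

namespace Groth.Agent.Assoc2

/-- Every finite set of points lies in an affine open. -/
def FAF (X : Scheme.{u}) : Prop :=
  ∀ F : Set X, F.Finite → ∃ O : X.Opens, IsAffineOpen O ∧ F ⊆ (O : Set X)

theorem FAF.of_isAffineHom {X Y : Scheme.{u}} (c : X ⟶ Y) [IsAffineHom c] (hY : FAF Y) : FAF X := fun F hF => by
  obtain ⟨O, hO, hFO⟩ := hY (c '' F) (hF.image _)
  exact ⟨c ⁻¹ᵁ O, hO.preimage c, fun z hz => hFO ⟨z, hz, rfl⟩⟩

open SchDescent (tr tr_over)

/-- Effectivity after a finite flat refinement. -/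
theorem isEffective_of_finite_refinement {X₀ U₀ U' : Scheme.{u}} {r : X₀ ⟶ U₀}
    (E : Desc.SchDDFam (fun _ : PUnit.{u + 1} => r)) (q : U' ⟶ U₀) [Surjective q] [Flat q] [IsFinite q]
    (s : U' ⟶ X₀) (hs : s ≫ r = q) (hF : FAF (pullback (E.obj PUnit.unit).hom s)) :
    ∃ W : Over U₀, Nonempty ((Desc.toDDFam (fun _ : PUnit.{u + 1} => r)).obj W ≅ E) := by
  let u : PUnit.{u + 1} → (U' ⟶ U₀) := fun _ => q
  have w : ∀ _ : PUnit.{u + 1}, s ≫ r = q ≫ 𝟙 U₀ := fun _ => hs.trans (Category.comp_id q).symm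
  let Φ := Desc.pullDDFam (f := fun _ : PUnit.{u + 1} => r) (f' := u) (α := fun j => j) (p := 𝟙 U₀)
    (p' := fun _ => s) w
  have hu : Presieve.ofArrows (fun _ : PUnit.{u + 1} => U') u ∈ Scheme.fpqcPrecoverage U₀ := by
    show Presieve.ofArrows (fun _ : PUnit.{u + 1} => U') (fun _ => q) ∈ _
    rw [Presieve.ofArrows_pUnit]
    exact SchDescent.singleton_mem_fpqc
  have hl : SchDescent.LiftsCover u (fun _ : PUnit.{u + 1} => r) := SchDescent.liftsCover_of_cover _ _ hu
  haveI : Φ.Full := SchDescent.full_pullDDFam (α := fun j => j) (g := fun _ => s) w hl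
  haveI : Φ.Faithful := SchDescent.faithful_pullDDFam (α := fun j => j) (g := fun _ => s) w hl.liftsEpi
  let D' := (Desc.SchDDFam.toSchDD q).obj (Φ.obj E)
  obtain ⟨W, ⟨e⟩⟩ : ∃ W : Over U₀, Nonempty ((Desc.toDD q).obj W ≅ D') := by
    refine SchDescent.effective_of_finite_flat fun z => ?_
    have hfin : (pullback.snd q (D'.obj.hom ≫ q) ⁻¹' {z}).Finite :=
      Scheme.Hom.finite_preimage_singleton _ z
    obtain ⟨O, hO, hFO⟩ := hF _ (hfin.image (tr D' (pullback.fst q (D'.obj.hom ≫ q))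
      (pullback.snd q (D'.obj.hom ≫ q)) (by rw [Category.assoc, pullback.condition])))
    exact ⟨O, hO, fun w hw => hFO ⟨w, hw, rfl⟩⟩
  refine ⟨W, ?_⟩
  have i₁ : (Desc.toDDFam u).obj W ≅ Φ.obj E := (Desc.SchDDFam.ofSchDD q).mapIso e
  obtain ⟨i₂⟩ : Nonempty (Φ.obj ((Desc.toDDFam (fun _ : PUnit.{u + 1} => r)).obj W) ≅ (Desc.toDDFam u).obj W) := by
    refine SchDescent.nonempty_iso_pull (α := fun j => j) (g := fun _ : PUnit.{u + 1} => s) w
      (D := (Desc.toDDFam (fun _ : PUnit.{u + 1} => r)).obj W) (D' := (Desc.toDDFam u).obj W)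
      (fun {T i} t =>
        { toFun := fun z => ⟨pullback.lift (t ≫ s) (z.1 ≫ pullback.snd q W.hom) (by
            rw [Category.assoc, hs, Category.assoc, ← pullback.condition, ← Category.assoc]
            exact congrArg (· ≫ q) z.2.symm), pullback.lift_fst _ _ _⟩
          invFun := fun z => ⟨pullback.lift t (z.1 ≫ pullback.snd r W.hom) (by
            rw [Category.assoc, ← pullback.condition, ← Category.assoc]
            exact ((congrArg (· ≫ r) z.2).trans ((Category.assoc _ _ _).trans (congrArg (t ≫ ·) hs))).symm),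
            pullback.lift_fst _ _ _⟩
          left_inv := fun z => Subtype.ext (pullback.hom_ext
            ((pullback.lift_fst _ _ _).trans z.2.symm)
            ((pullback.lift_snd _ _ _).trans (pullback.lift_snd _ _ _)))
          right_inv := fun z => Subtype.ext (pullback.hom_ext
            ((pullback.lift_fst _ _ _).trans z.2.symm)
            ((pullback.lift_snd _ _ _).trans (pullback.lift_snd _ _ _))) }) ?_ ?_
    · intro T T' g i t t' ht z z' hz
      apply pullback.hom_ext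
      · refine (pullback.lift_fst _ _ _).trans ?_
        rw [Category.assoc, ← ht, Category.assoc]
        exact congrArg (g ≫ ·) (pullback.lift_fst _ _ _).symm
      · refine (pullback.lift_snd _ _ _).trans ?_
        rw [hz, Category.assoc, Category.assoc]
        exact congrArg (g ≫ ·) (pullback.lift_snd _ _ _).symm
    · intro T i j x₀ x₁ h h' z
      apply Subtype.ext
      apply pullback.hom_ext
      · exact (pullback.lift_fst _ _ _).trans (pullback.lift_fst _ _ _).symm
      · refine (pullback.lift_snd _ _ _).trans ((pullback.lift_snd _ _ _).trans ?_)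
        exact ((pullback.lift_snd _ _ _).trans (pullback.lift_snd _ _ _)).symm
  exact ⟨Φ.preimageIso (i₂ ≪≫ i₁)⟩

/-- **Effective descent along morphisms with finite étale multisections.** -/
theorem effective_of_finEtSec {X S : Scheme.{u}} {p : X ⟶ S} [Surjective p] [Flat p] [QuasiCompact p]
    (hp : FinEtSec p) (D : Desc.SchDD p)
    (hF : ∀ (U' : Scheme.{u}) [IsAffine U'] (t : U' ⟶ X), FAF (pullback D.obj.hom t)) :
    ∃ U : Over S, Nonempty ((Desc.toDD p).obj U ≅ D) := by
  haveI : Fact (Presieve.singleton p ∈ Scheme.fpqcPrecoverage S) := ⟨SchDescent.singleton_mem_fpqc⟩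
  refine SchDescent.effective_of_good_cover D fun z => ?_
  obtain ⟨U₀, U', q, t, hyU, hU₀, hq1, hq2, hq3, hqt⟩ := hp (p (D.obj.hom z))
  haveI := hq1; haveI := hq2; haveI := hq3
  haveI : IsAffine (U₀ : Scheme.{u}) := hU₀
  haveI : IsAffine U' := isAffine_of_isAffineHom q
  let X₀ := p ⁻¹ᵁ U₀
  let r := p ∣_ U₀
  have hr : r ≫ U₀.ι = X₀.ι ≫ p := morphismRestrict_ι p U₀
  let w : ∀ _ : PUnit.{u + 1}, X₀.ι ≫ p = r ≫ U₀.ι := fun _ => hr.symm
  let E := (Desc.pullDDFam (f := fun _ : PUnit.{u + 1} => p) (f' := fun _ : PUnit.{u + 1} => r)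
    (α := fun j => j) (p := U₀.ι) (p' := fun _ => X₀.ι) w).obj ((Desc.SchDDFam.ofSchDD p).obj D)
  let s : U' ⟶ X₀.toScheme := IsOpenImmersion.lift X₀.ι t (by
    rw [Scheme.Opens.range_ι]
    rintro _ ⟨v, rfl⟩
    show p (t v) ∈ U₀
    rw [← Scheme.Hom.comp_apply, hqt]
    exact (q v).2)
  have hsι : s ≫ X₀.ι = t := IsOpenImmersion.lift_fac _ _ _
  have hsr : s ≫ r = q := by
    rw [← cancel_mono U₀.ι, Category.assoc, hr, reassoc_of% hsι, hqt]
  obtain ⟨W, ⟨e⟩⟩ := isEffective_of_finite_refinement E q s hsr (by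
    change FAF (pullback (pullback.snd D.obj.hom X₀.ι) s)
    exact FAF.of_isAffineHom (pullbackLeftPullbackSndIso D.obj.hom X₀.ι s).hom (hF U' (s ≫ X₀.ι)))
  let V := D.obj.hom ⁻¹ᵁ X₀
  refine ⟨⟨V, SchDescent.isStableOpen_preimage D U₀, ?_⟩, hyU⟩
  let m : V.toScheme ⟶ X₀.toScheme := D.obj.hom ∣_ X₀
  have hm : m ≫ X₀.ι = V.ι ≫ D.obj.hom := morphismRestrict_ι _ _
  let l : V.toScheme ⟶ pullback D.obj.hom X₀.ι :=
    (isPullback_morphismRestrict D.obj.hom X₀).flip.isoPullback.hom
  haveI : IsIso l := inferInstanceAs (IsIso (isPullback_morphismRestrict D.obj.hom X₀).flip.isoPullback.hom)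
  have hl1 : l ≫ pullback.fst _ _ = V.ι :=
    IsPullback.isoPullback_hom_fst (isPullback_morphismRestrict D.obj.hom X₀).flip
  have hl2 : l ≫ pullback.snd _ _ = m :=
    IsPullback.isoPullback_hom_snd (isPullback_morphismRestrict D.obj.hom X₀).flip
  let e₁ : pullback D.obj.hom X₀.ι ⟶ pullback r W.hom := (e.inv.hom PUnit.unit).left
  have he₁ : e₁ ≫ pullback.fst r W.hom = pullback.snd D.obj.hom X₀.ι := Over.w (e.inv.hom PUnit.unit)
  haveI : IsIso e₁ := ⟨(e.hom.hom PUnit.unit).left,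
    by rw [← Over.comp_left, ← Desc.SchDDFam.comp_hom, e.inv_hom_id]; rfl,
    by rw [← Over.comp_left, ← Desc.SchDDFam.comp_hom, e.hom_inv_id]; rfl⟩
  let π : V.toScheme ⟶ W.left := l ≫ e₁ ≫ pullback.snd r W.hom
  refine ⟨Over.mk (W.hom ≫ U₀.ι), π, ?_, ?_⟩
  · have h1 : IsPullback π m W.hom r :=
      (IsPullback.of_hasPullback r W.hom).flip.of_iso (asIso (l ≫ e₁)).symm (Iso.refl _) (Iso.refl _) (Iso.refl _)
        (by simp [π]) (by simp [← hl2, ← he₁]) (by simp) (by simp)
    have h2 := h1.paste_vert (isPullback_morphismRestrict p U₀)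
    rw [hm] at h2
    exact h2
  · intro T x₀ x₁ h v v' hv hv'
    have hfac : ∀ (v : T ⟶ V.toScheme) (x : T ⟶ X), (v ≫ V.ι) ≫ D.obj.hom = x → (v ≫ m) ≫ X₀.ι = x :=
      fun v x hx => by rw [Category.assoc, hm, ← Category.assoc, hx]
    have hx₁ : (v' ≫ V.ι) ≫ D.obj.hom = x₁ := by rw [hv']; exact (D.φ x₀ x₁ h ⟨_, hv⟩).2
    let y₀ := v ≫ m
    let y₁ := v' ≫ m
    have hy : y₀ ≫ r = y₁ ≫ r := by
      have h' := h
      rw [← hfac v x₀ hv, ← hfac v' x₁ hx₁] at h'
      rw [← cancel_mono U₀.ι]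
      simp only [y₀, y₁, Category.assoc, hr] at h' ⊢
      exact h'
    let zv : Desc.Lifts (E.obj PUnit.unit) y₀ :=
      ⟨v ≫ l, (Category.assoc _ _ _).trans (congrArg (v ≫ ·) hl2)⟩
    have hE : (E.φ (j := PUnit.unit) y₀ y₁ hy zv).1 = v' ≫ l := by
      apply pullback.hom_ext
      · refine (pullback.lift_fst _ _ _).trans (Eq.trans ?_
          ((Category.assoc v' l _).trans (congrArg (v' ≫ ·) hl1)).symm)
        refine Eq.trans ?_ hv'.symm
        exact SchDescent.phi_congr (hfac v x₀ hv) (hfac v' x₁ hx₁) _ _ _ _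
          ((Category.assoc _ _ _).trans (congrArg (v ≫ ·) hl1))
      · exact (pullback.lift_snd _ _ _).trans ((Category.assoc v' l _).trans (congrArg (v' ≫ ·) hl2)).symm
    have hc := e.inv.comm (j := PUnit.unit) y₀ y₁ hy zv ⟨zv.1 ≫ e₁,
      (Category.assoc _ _ _).trans ((congrArg (zv.1 ≫ ·) he₁).trans zv.2)⟩ rfl
    have hc' := congrArg (· ≫ pullback.snd r W.hom) hc
    rw [hE] at hc'
    have h3 := (pullback.lift_snd _ _ _).symm.trans hc'
    simp only [zv, Category.assoc] at h3 ⊢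
    exact h3

end Groth.Agent.Assoc2
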