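import Groth.Agent.Assoc2.Descent
import Groth.Agent.TMul.AmpleBasis
import Groth.Agent.PiSmooth.Main
import Groth.Agent.SpecialExt.Basic
import Groth.Agent.SubGen.AlgClosed
import Groth.Agent.Unirat.PicTransl

/-!
# Schemes with finite sets in affine opens
-/

set_option autoImplicit false
set_option linter.style.haveILetI false
set_option backward.isDefEq.respectTransparency false
set_option backward.isDefEq.respectTransparency.types false
set_option maxHeartbeats 1000000

universe u

open CategoryTheory CategoryTheory.Limits MonoidalCategory CartesianMonoidalCategory GrpObj AlgebraicGeometry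
open scoped CategoryTheory.MonObj
open Groth.Agent.SubGen (rpt exists_rpt map_rpt)

noncomputable section

namespace Groth.Agent.Assoc2

theorem FAF.of_isAmple {X : Scheme.{u}} {L : X.Modules} (hL : CohB1.IsAmple L) : FAF X := fun F hF => by
  obtain ⟨n, t, h1, -, h2⟩ := TMul.exists_finite_le hL hF (U := ⊤) (fun z _ => trivial)
  exact ⟨_, h2, h1⟩

theorem FAF.of_isAffine {X : Scheme.{u}} [IsAffine X] : FAF X := fun _ _ =>
  ⟨⊤, isAffineOpen_top X, fun _ _ => trivial⟩

variable {k : Type u} [Field k] [IsAlgClosed k]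

/-- A quotient of a group over an algebraically closed field has finite sets in affine opens. -/
theorem FAF.quotient {F G Q : Over (Spec (CommRingCat.of k))} [GrpObj F] [GrpObj G]
    [LocallyOfFiniteType G.hom] [QuasiCompact G.hom] [IsSeparated Q.hom] [LocallyOfFiniteType Q.hom]
    (u : F ⟶ G) [IsMonHom u] (p : G ⟶ Q) [Flat p.left] [Surjective p.left] [LocallyOfFinitePresentation p.left]
    (hsq : IsPullback ((u ▷ G) ≫ μ[G]) (snd F G) p p) : FAF Q.left := by
  intro S hS
  classical
  haveI : QuasiCompact p.left := by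
    haveI : QuasiCompact (p.left ≫ Q.hom) := by rw [Over.w p]; infer_instance
    exact QuasiCompact.of_comp p.left Q.hom
  haveI : JacobsonSpace Q.left := LocallyOfFiniteType.jacobsonSpace Q.hom
  haveI : JacobsonSpace G.left := LocallyOfFiniteType.jacobsonSpace G.hom
  haveI : IsLocallyNoetherian G.left := LocallyOfFiniteType.isLocallyNoetherian G.hom
  haveI : CompactSpace G.left := QuasiCompact.compactSpace_of_compactSpace G.hom
  haveI : IsNoetherian G.left := ⟨⟩
  haveI : IsLocallyNoetherian Q.left := LocallyOfFiniteType.isLocallyNoetherian Q.hom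
  haveI : CompactSpace Q.left := ⟨by
    rw [← p.left.surjective.range_eq]
    exact isCompact_range p.left.continuous⟩
  haveI : IsNoetherian Q.left := ⟨⟩
  haveI : Q.left.IsSeparated := ⟨by rw [← terminal.comp_from Q.hom]; infer_instance⟩
  haveI : TopologicalSpace.NoetherianSpace Q.left := inferInstance
  obtain ⟨O, hO, hOd⟩ := PiSmooth.exists_dense_isAffineOpen Q.left
  have hW : Dense ((p.left ⁻¹ᵁ O : G.left.Opens) : Set G.left) := hOd.preimage p.left.isOpenMap
  -- right translations
  let R : (𝟙_ (Over (Spec (CommRingCat.of k))) ⟶ G) → (G ⟶ G) := fun g => 𝟙 G * (toUnit G ≫ g)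
  have hR : ∀ {T : Over (Spec (CommRingCat.of k))} (z : T ⟶ G) (g : 𝟙_ (Over (Spec (CommRingCat.of k))) ⟶ G),
      z ≫ R g = z * (toUnit T ≫ g) := fun z g => by
    simp only [R, MonObj.comp_mul, Category.comp_id]
    rw [← Category.assoc, toUnit_unique (z ≫ toUnit G) (toUnit _)]
  have hμ : ∀ {T : Over (Spec (CommRingCat.of k))} (h : T ⟶ F) (z : T ⟶ G),
      lift h z ≫ (u ▷ G) ≫ μ[G] = (h ≫ u) * z := fun h z => by
    rw [← Category.assoc, lift_whiskerRight, Hom.mul_def]
  have hex : ∀ g, ∃ τ : Q ⟶ Q, p ≫ τ = R g ≫ p := fun g =>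
    SpecialExt.exists_desc p (R g ≫ p) fun U z z' hz => by
      obtain ⟨l, h1, h2⟩ := hsq.exists_lift z z' hz
      have hl : l = lift (l ≫ fst F G) z' :=
        CartesianMonoidalCategory.hom_ext _ _ (by simp) (by simp [h2])
      rw [hl, hμ] at h1
      have hw : ((l ≫ fst F G ≫ u) * (z' * (toUnit U ≫ g))) ≫ p = (z' * (toUnit U ≫ g)) ≫ p := by
        rw [← Category.assoc l, ← hμ, Category.assoc, hsq.w, lift_snd_assoc]
      rw [← Category.assoc, hR, ← Category.assoc, hR, ← h1, _root_.mul_assoc, Category.assoc l]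
      exact hw
  choose τ hτ using hex
  have hτmul : ∀ g g', τ g ≫ τ g' = τ (g * g') := fun g g' => by
    refine SpecialExt.cancel_cover p ?_
    rw [reassoc_of% (hτ g), hτ g', hτ (g * g'), ← Category.assoc, hR]
    simp only [R, MonObj.comp_mul, _root_.mul_assoc]
  have hτone : τ 1 = 𝟙 Q := by
    refine SpecialExt.cancel_cover p ?_
    rw [hτ, Category.comp_id]
    simp only [R, MonObj.comp_one, _root_.mul_one, Category.id_comp]
  haveI hiso : ∀ g, IsIso (τ g).left := fun g =>
    ⟨(τ g⁻¹).left, by rw [← Over.comp_left, hτmul, mul_inv_cancel, hτone]; rfl,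
      by rw [← Over.comp_left, hτmul, inv_mul_cancel, hτone]; rfl⟩
  -- closed specialisations
  have hspec : ∀ s : Q.left, ∃ h : 𝟙_ (Over (Spec (CommRingCat.of k))) ⟶ G, s ⤳ p.left (rpt h) := fun s => by
    obtain ⟨z, hz, hzc⟩ := nonempty_inter_closedPoints (Z := closure ({s} : Set Q.left))
      ⟨s, subset_closure rfl⟩ isClosed_closure.isLocallyClosed
    obtain ⟨w, hw, hwc⟩ := nonempty_inter_closedPoints (Z := p.left ⁻¹' {z})
      (by obtain ⟨w, hw⟩ := p.left.surjective z; exact ⟨w, hw⟩)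
      (hzc.preimage p.left.continuous).isLocallyClosed
    obtain ⟨h, rfl⟩ := exists_rpt hwc
    exact ⟨h, specializes_iff_mem_closure.2 (by rw [show p.left (rpt h) = z from hw]; exact hz)⟩
  choose h hh using hspec
  -- translations of `G` by rational points
  let L : (𝟙_ (Over (Spec (CommRingCat.of k))) ⟶ G) → (G ⟶ G) := fun g => (toUnit G ≫ g) * 𝟙 G
  have hL : ∀ g g', L g ≫ L g' = L (g' * g) := fun g g' => by
    simp only [L, MonObj.comp_mul, MonObj.mul_comp, Category.comp_id]
    rw [← _root_.mul_assoc, ← Category.assoc, toUnit_unique (_ ≫ toUnit G) (toUnit G)]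
  have hL1 : L 1 = 𝟙 G := by simp only [L, MonObj.comp_one, _root_.one_mul]
  have hdense : ∀ g, Dense ((L g).left ⁻¹' ((p.left ⁻¹ᵁ O : G.left.Opens) : Set G.left)) := fun g => by
    haveI : IsIso (L g).left := ⟨(L g⁻¹).left, by rw [← Over.comp_left, hL, inv_mul_cancel, hL1]; rfl,
      by rw [← Over.comp_left, hL, mul_inv_cancel, hL1]; rfl⟩
    exact hW.preimage (L g).left.isOpenMap
  let A : G.left.Opens := hS.toFinset.inf fun s => (L (h s)).left ⁻¹ᵁ (p.left ⁻¹ᵁ O)
  have hA : ∀ T : Finset Q.left, Dense (((T.inf fun s => (L (h s)).left ⁻¹ᵁ (p.left ⁻¹ᵁ O)) : G.left.Opens) : Set G.left) := by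
    intro T
    induction T using Finset.induction_on with
    | empty => simp
    | insert s T _ ih =>
      rw [Finset.inf_insert]
      exact (hdense (h s)).inter_of_isOpen_left ih ((L (h s)).left ⁻¹ᵁ (p.left ⁻¹ᵁ O)).2
  haveI : Nonempty G.left := ⟨η[G].left (IsLocalRing.closedPoint k)⟩
  obtain ⟨g, hg⟩ := Unirat.exists_rp_mem_open A (hA hS.toFinset).nonempty
  refine ⟨(τ g).left ⁻¹ᵁ O, hO.preimage _, fun s hs => (hh s).mem_open ((τ g).left ⁻¹ᵁ O).2 ?_⟩
  have h1 : rpt g ∈ (L (h s)).left ⁻¹ᵁ (p.left ⁻¹ᵁ O) := by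
    have hle : A ≤ (L (h s)).left ⁻¹ᵁ (p.left ⁻¹ᵁ O) :=
      Finset.inf_le (f := fun s => (L (h s)).left ⁻¹ᵁ (p.left ⁻¹ᵁ O)) (hS.mem_toFinset.2 hs)
    exact hle hg
  show (τ g).left (p.left (rpt (h s))) ∈ O
  have e : (h s ≫ p) ≫ τ g = (g ≫ L (h s)) ≫ p := by
    rw [Category.assoc, hτ, ← Category.assoc, hR]
    simp only [L, MonObj.comp_mul, Category.comp_id]
    rw [← Category.assoc g, toUnit_unique (g ≫ toUnit G) (𝟙 _), toUnit_unique (toUnit (𝟙_ (Over (Spec (CommRingCat.of k))))) (𝟙 _),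
      Category.id_comp, Category.id_comp]
  rw [map_rpt, map_rpt, e, ← map_rpt, ← map_rpt]
  exact h1

end Groth.Agent.Assoc2
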