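import Groth.Agent.Assoc.Bundle
import Groth.Agent.GLTorsorZar.Alg
import Groth.Agent.GLTorsorZar.Pts
import Groth.Agent.GITss.Restrict
import Groth.Agent.GITLin.Rigid
import Groth.Agent.SchDescent.AffineDesc
import Mathlib.AlgebraicGeometry.Morphisms.LocalFlatDescent

/-!
# Equivariant maps from torsors to the general linear group, locally on the base
-/

set_option autoImplicit false
set_option linter.style.haveILetI false
set_option backward.isDefEq.respectTransparency false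
set_option backward.isDefEq.respectTransparency.types false
set_option maxHeartbeats 1000000
set_option synthInstance.maxHeartbeats 400000

universe u

open CategoryTheory CategoryTheory.Limits MonoidalCategory CartesianMonoidalCategory AlgebraicGeometry
open scoped CategoryTheory.MonObj TensorProduct
open Groth.Agent.GITss (opn inc)

noncomputable section

namespace Groth.Agent.Assoc2

open Groth.Agent.GLTorsorZar (mat mat_comp mat_mul mat_one mat_ext exists_mat exists_coboundary)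

attribute [-instance] instCommGrpObjSpecAsOverSpec isCommMonObj_spec_asOver_spec

variable {S₀ : Scheme.{u}} {G P Y : Over S₀} [GrpObj G] (a : AlgGrp.Action G P) (f : P ⟶ Y)
  (hsq : IsPullback a.act.left (snd G P).left f.left f.left)

theorem appLE_appTop {X₁ Y₁ Z₁ : Scheme.{u}} (i : X₁ ⟶ Y₁) (j : Y₁ ⟶ Z₁) (V : Z₁.Opens) (e : (⊤ : Y₁.Opens) ≤ j ⁻¹ᵁ V) :
    j.appLE V ⊤ e ≫ i.appTop = (i ≫ j).appLE V ⊤ (fun w _ => e (x := i w) trivial) := by
  rw [show i.appTop = i.appLE ⊤ ⊤ (fun _ _ => trivial) from (Scheme.Hom.appLE_eq_app i).symm,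
    Scheme.Hom.appLE_comp_appLE]

theorem appLE_congr_left {X₁ Z₁ : Scheme.{u}} {i j : X₁ ⟶ Z₁} (h : i = j) (V : Z₁.Opens) (W : X₁.Opens)
    (e : W ≤ i ⁻¹ᵁ V) (e' : W ≤ j ⁻¹ᵁ V) : i.appLE V W e = j.appLE V W e' := by
  subst h; rfl

include hsq in
theorem act_comp {T : Over S₀} (g : T ⟶ G) (x : T ⟶ P) : (lift g x ≫ a.act) ≫ f = x ≫ f := by
  rw [Category.assoc, (Assoc.pullback_over a f hsq).w, lift_snd_assoc]

include hsq in
/-- A torsor under an affine group is affine over its base. -/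
theorem isAffineHom_torsor [IsAffineHom G.hom] [Flat f.left] [Surjective f.left] [QuasiCompact f.left] :
    IsAffineHom f.left := by
  haveI := SchDescent.descendsAlong_isAffineHom
  have hQ : (@Surjective ⊓ @Flat ⊓ @QuasiCompact : MorphismProperty Scheme.{u}) f.left :=
    ⟨⟨‹_›, ‹_›⟩, ‹_›⟩
  refine MorphismProperty.of_isPullback_of_descendsAlong (P := @IsAffineHom) hsq.flip hQ ?_
  change IsAffineHom (pullback.snd G.hom P.hom)
  exact MorphismProperty.pullback_snd (P := @IsAffineHom) _ _ ‹_›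

include hsq in
/-- **Locally on the base a torsor maps equivariantly to the general linear group.** -/
theorem exists_GL_map {n : ℕ} (ρ : G ⟶ FrB.GLn n S₀) [IsMonHom ρ] [IsAffineHom f.left] [Flat f.left]
    [Surjective f.left] (y : Y.left) :
    ∃ U : Y.left.Opens, y ∈ U ∧ IsAffineOpen U ∧ ∃ r : opn (X := P) (f.left ⁻¹ᵁ U) ⟶ FrB.GLn n S₀,
      ∀ (T : Over S₀) (g : T ⟶ G) (x x' : T ⟶ opn (X := P) (f.left ⁻¹ᵁ U)),
        lift g (x ≫ inc _) ≫ a.act = x' ≫ inc _ → x' ≫ r = (g ≫ ρ) * (x ≫ r) := by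
  classical
  obtain ⟨_, ⟨V, hV, rfl⟩, hyV, -⟩ :=
    Y.left.isBasis_affineOpens.exists_subset_of_mem_open (Set.mem_univ y) isOpen_univ
  let O := f.left ⁻¹ᵁ V
  have hO : IsAffineOpen O := hV.preimage f.left
  let A := Γ(Y.left, V)
  let B := Γ(P.left, O)
  let φ₀ := f.left.appLE V O le_rfl
  letI : Algebra A B := φ₀.hom.toAlgebra
  haveI : Module.Flat A B := f.left.flat_appLE hV hO le_rfl
  have hτ : hO.fromSpec ≫ f.left = Spec.map φ₀ ≫ hV.fromSpec :=
    (hV.SpecMap_appLE_fromSpec f.left hO le_rfl).symm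
  have hsurj : ∀ p : PrimeSpectrum A, ∃ q : PrimeSpectrum B, PrimeSpectrum.comap (algebraMap A B) q = p :=
    fun p => by
      obtain ⟨x, hx⟩ := f.left.surjective (hV.fromSpec p)
      have hxO : x ∈ O := show f.left x ∈ V by rw [hx]; exact hV.range_fromSpec.le ⟨p, rfl⟩
      refine ⟨hO.primeIdealOf ⟨x, hxO⟩, hV.fromSpec.isOpenEmbedding.injective ?_⟩
      show hV.fromSpec (Spec.map φ₀ (hO.primeIdealOf ⟨x, hxO⟩)) = _
      rw [← Scheme.Hom.comp_apply, ← hτ, Scheme.Hom.comp_apply, hO.fromSpec_primeIdealOf, hx]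
  haveI : Module.FaithfullyFlat A B := Module.FaithfullyFlat.of_comap_surjective hsurj
  let T : ∀ (R : Type u) [CommRing R] [Algebra A R], Over S₀ :=
    fun R _ _ => Over.mk (Spec.map (CommRingCat.ofHom (algebraMap A R)) ≫ hV.fromSpec ≫ Y.hom)
  have hpl : ∀ (R : Type u) [CommRing R] [Algebra A R] (χ : B →ₐ[A] R),
      (Spec.map (CommRingCat.ofHom χ.toRingHom) ≫ hO.fromSpec) ≫ f.left =
        Spec.map (CommRingCat.ofHom (algebraMap A R)) ≫ hV.fromSpec := fun R _ _ χ => by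
    rw [Category.assoc, hτ, ← Spec.map_comp_assoc]
    congr 2
    ext z
    exact χ.commutes z
  let pt : ∀ (R : Type u) [CommRing R] [Algebra A R], (B →ₐ[A] R) → (T R ⟶ P) := fun R _ _ χ =>
    Over.homMk (Spec.map (CommRingCat.ofHom χ.toRingHom) ≫ hO.fromSpec)
      ((congrArg (_ ≫ ·) (Over.w f).symm).trans ((Category.assoc _ _ _).symm.trans
        ((congrArg (· ≫ Y.hom) (hpl R χ)).trans (Category.assoc _ _ _))))
  have hpφ : ∀ (R : Type u) [CommRing R] [Algebra A R] (χ ψ : B →ₐ[A] R), pt R χ ≫ f = pt R ψ ≫ f :=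
    fun R _ _ χ ψ => Over.OverMorphism.ext ((hpl R χ).trans (hpl R ψ).symm)
  let ε : ∀ (R : Type u) [CommRing R], Γ(Spec (CommRingCat.of R), ⊤) →+* R := fun R _ =>
    (Scheme.ΓSpecIso (CommRingCat.of R)).hom.hom
  let W : ∀ (R : Type u) [CommRing R] [Algebra A R] [Module.Flat A R], (B →ₐ[A] R) → (B →ₐ[A] R) →
      Matrix (Fin n) (Fin n) R := fun R _ _ _ χ ψ =>
    (mat (W := T R) (Assoc.div a f hsq (pt R ψ) (pt R χ) (hpφ R ψ χ) ≫ ρ)).map (ε R)
  have hWspec : ∀ (R : Type u) [CommRing R] [Algebra A R] [Module.Flat A R] (χ ψ : B →ₐ[A] R)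
      (g : T R ⟶ G), lift g (pt R χ) ≫ a.act = pt R ψ → W R χ ψ = (mat (W := T R) (g ≫ ρ)).map (ε R) :=
    fun R _ _ _ χ ψ g hg => by
      show (mat (W := T R) _).map (ε R) = _
      rw [Assoc.div_unique a f hsq (pt R χ) g _ (hg.trans (Assoc.div_spec a f hsq _ _ (hpφ R ψ χ)).symm)]
  have hεnat : ∀ (R R' : Type u) [CommRing R] [Algebra A R] [CommRing R'] [Algebra A R'] (φ : R →ₐ[A] R')
      (M : Matrix (Fin n) (Fin n) Γ(Spec (CommRingCat.of R), ⊤)),
      (M.map (Spec.map (CommRingCat.ofHom φ.toRingHom)).appTop).map (ε R') = (M.map (ε R)).map φ :=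
    fun R R' _ _ _ _ φ M => by
      ext i j
      exact RingHom.congr_fun (congrArg CommRingCat.Hom.hom
        (Scheme.ΓSpecIso_naturality (CommRingCat.ofHom φ.toRingHom))) (M i j)
  have hnat : ∀ (R R' : Type u) [CommRing R] [Algebra A R] [Module.Flat A R] [CommRing R'] [Algebra A R']
      [Module.Flat A R'] (φ : R →ₐ[A] R') (χ ψ : B →ₐ[A] R),
      (W R χ ψ).map φ = W R' (φ.comp χ) (φ.comp ψ) := fun R R' _ _ _ _ _ _ φ χ ψ => by
    let g := Assoc.div a f hsq (pt R ψ) (pt R χ) (hpφ R ψ χ)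
    have hg : lift g (pt R χ) ≫ a.act = pt R ψ := Assoc.div_spec a f hsq _ _ _
    let p : T R' ⟶ T R := Over.homMk (Spec.map (CommRingCat.ofHom φ.toRingHom)) (by
      show _ ≫ _ ≫ _ = _
      rw [← Spec.map_comp_assoc]
      congr 2
      ext z
      exact φ.commutes z)
    have hp : ∀ χ : B →ₐ[A] R, p ≫ pt R χ = pt R' (φ.comp χ) := fun χ => by
      ext1
      show Spec.map (CommRingCat.ofHom φ.toRingHom) ≫ Spec.map (CommRingCat.ofHom χ.toRingHom) ≫ hO.fromSpec =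
        Spec.map (CommRingCat.ofHom (φ.comp χ).toRingHom) ≫ hO.fromSpec
      rw [← Spec.map_comp_assoc]
      rfl
    have h2 : lift (p ≫ g) (pt R' (φ.comp χ)) ≫ a.act = pt R' (φ.comp ψ) := by
      rw [← hp, ← hp, ← comp_lift_assoc, hg]
    rw [hWspec R' _ _ _ h2, Category.assoc, mat_comp]
    exact (hεnat R R' φ (mat (W := T R) (g ≫ ρ))).symm
  have hone : ∀ (R : Type u) [CommRing R] [Algebra A R] [Module.Flat A R] (χ : B →ₐ[A] R), W R χ χ = 1 :=
    fun R _ _ _ χ => by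
      rw [hWspec R χ χ 1 (GrpAct.one_smul' a _), MonObj.one_comp, mat_one]
      exact Matrix.map_one _ (map_zero _) (map_one _)
  have hcoc : ∀ (R : Type u) [CommRing R] [Algebra A R] [Module.Flat A R] (χ ψ ω : B →ₐ[A] R),
      W R ψ ω * W R χ ψ = W R χ ω := fun R _ _ _ χ ψ ω => by
    let g := Assoc.div a f hsq (pt R ψ) (pt R χ) (hpφ R ψ χ)
    let g' := Assoc.div a f hsq (pt R ω) (pt R ψ) (hpφ R ω ψ)
    have hg : lift g (pt R χ) ≫ a.act = pt R ψ := Assoc.div_spec a f hsq _ _ _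
    have hg' : lift g' (pt R ψ) ≫ a.act = pt R ω := Assoc.div_spec a f hsq _ _ _
    rw [hWspec R χ ω (g' * g) (by rw [GrpAct.mul_smul, hg, hg']), hWspec R χ ψ g hg, hWspec R ψ ω g' hg',
      MonObj.mul_comp, mat_mul]
    exact ((ε R).mapMatrix.map_mul _ _).symm
  obtain ⟨p, hp⟩ : ∃ p : PrimeSpectrum A, hV.fromSpec p = y := hV.range_fromSpec.ge hyV
  obtain ⟨f₀, hf₀, m, d, hmd, hm⟩ := exists_coboundary W hnat hone hcoc p
  let U := Y.left.basicOpen f₀
  have hUV : U ≤ V := Y.left.basicOpen_le f₀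
  have hOU : f.left ⁻¹ᵁ U ≤ O := f.left.preimage_mono hUV
  have hyU : y ∈ U := by
    rw [← hp]
    show p ∈ hV.fromSpec ⁻¹ᵁ Y.left.basicOpen f₀
    rw [IsAffineOpen.fromSpec_preimage_basicOpen]
    exact hf₀
  refine ⟨U, hyU, hV.basicOpen f₀, ?_⟩
  let Q := opn (X := P) (f.left ⁻¹ᵁ U)
  have hle : (⊤ : Q.left.Opens) ≤ (inc (X := P) (f.left ⁻¹ᵁ U)).left ⁻¹ᵁ O := fun z _ => hOU z.2
  let res : B →+* Γ(Q.left, ⊤) := ((inc (X := P) (f.left ⁻¹ᵁ U)).left.appLE O ⊤ hle).hom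
  have hunit : IsUnit (res (algebraMap A B f₀)) := by
    show IsUnit ((φ₀ ≫ (inc (X := P) (f.left ⁻¹ᵁ U)).left.appLE O ⊤ hle).hom f₀)
    rw [Scheme.Hom.appLE_comp_appLE]
    have hb : (⊤ : Q.left.Opens) ≤ Q.left.basicOpen
        (((inc (X := P) (f.left ⁻¹ᵁ U)).left ≫ f.left).appLE V ⊤ (fun z hz => hle hz) f₀) := by
      rw [Scheme.basicOpen_appLE]
      exact fun z hz => ⟨hz, z.2⟩
    exact Q.left.toRingedSpace.isUnit_of_isUnit_germ _ _ fun z hz => (Q.left.mem_basicOpen _ z hz).1 (hb hz)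
  have hdet : IsUnit (m.map res).det := by
    rw [← RingHom.mapMatrix_apply, ← RingHom.map_det]
    refine isUnit_of_mul_isUnit_left (y := res d) ?_
    rw [← map_mul, hmd]
    exact hunit
  obtain ⟨r, hr⟩ := exists_mat (S := S₀) (W := Q) (m.map res) hdet
  refine ⟨r, fun T₁ g x x' hxx' => ?_⟩
  -- the universal pair
  let R2 := B ⊗[A] B
  let ιl : B →ₐ[A] R2 := Algebra.TensorProduct.includeLeft
  let ιr : B →ₐ[A] R2 := Algebra.TensorProduct.includeRight
  haveI : Module.Flat A R2 := Module.Flat.trans A B R2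
  have hmx : ∀ z : T₁ ⟶ Q, ∃ χ : B →+* Γ(T₁.left, ⊤), mat (z ≫ r) = m.map χ ∧
      T₁.left.toSpecΓ ≫ Spec.map (CommRingCat.ofHom χ) ≫ hO.fromSpec = (z ≫ inc _).left ∧
      ∀ c : A, χ (algebraMap A B c) = ((z ≫ inc (X := P) _ ≫ f).left.appLE V ⊤
        (fun w _ => hle (x := z.left w) trivial) : Γ(Y.left, V) ⟶ _).hom c := fun z => by
    refine ⟨(z.left.appTop).hom.comp res, ?_, ?_, fun c => ?_⟩
    · rw [mat_comp, hr, Matrix.map_map]
      rfl
    · have e : CommRingCat.ofHom ((z.left.appTop).hom.comp res) = (z ≫ inc _).left.appLE O ⊤ (fun w _ => hle trivial) := by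
        show (inc (X := P) (f.left ⁻¹ᵁ U)).left.appLE O ⊤ hle ≫ z.left.appTop = _
        exact appLE_appTop _ _ _ _
      rw [e]
      exact GITLin.toSpecΓ_appLE_fromSpec hO _ _
    · show ((φ₀ ≫ (inc (X := P) (f.left ⁻¹ᵁ U)).left.appLE O ⊤ hle) ≫ z.left.appTop).hom c = _
      rw [Scheme.Hom.appLE_comp_appLE, appLE_appTop]
      rfl
  obtain ⟨χ, hχm, hχp, hχA⟩ := hmx x
  obtain ⟨χ', hχm', hχp', hχA'⟩ := hmx x'
  have hxf : x ≫ inc _ ≫ f = x' ≫ inc _ ≫ f := by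
    rw [← Category.assoc x', ← hxx', act_comp a f hsq, Category.assoc]
  have hAA : ∀ c : A, χ (algebraMap A B c) = χ' (algebraMap A B c) := fun c => by
    rw [hχA, hχA']
    congr 2
    exact appLE_congr_left (congrArg CommaMorphism.left hxf) _ _ _ _
  letI : Algebra A Γ(T₁.left, ⊤) := (χ.comp (algebraMap A B)).toAlgebra
  let χa : B →ₐ[A] Γ(T₁.left, ⊤) := { χ with commutes' := fun _ => rfl }
  let χa' : B →ₐ[A] Γ(T₁.left, ⊤) := { χ' with commutes' := fun c => (hAA c).symm }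
  let ψ : R2 →ₐ[A] Γ(T₁.left, ⊤) := Algebra.TensorProduct.lift χa χa' (fun _ _ => Commute.all _ _)
  have hψl : ∀ b, ψ (ιl b) = χ b := fun b =>
    (AlgHom.congr_fun (Algebra.TensorProduct.lift_comp_includeLeft χa χa' (fun _ _ => Commute.all _ _)) b : _)
  have hψr : ∀ b, ψ (ιr b) = χ' b := fun b =>
    (AlgHom.congr_fun (Algebra.TensorProduct.lift_comp_includeRight χa χa' (fun _ _ => Commute.all _ _)) b : _)
  have hpz : ∀ (j : B →ₐ[A] R2) (χ₁ : B →+* Γ(T₁.left, ⊤)) (z : T₁ ⟶ Q),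
      T₁.left.toSpecΓ ≫ Spec.map (CommRingCat.ofHom χ₁) ≫ hO.fromSpec = (z ≫ inc _).left →
      (∀ b, ψ (j b) = χ₁ b) →
      (T₁.left.toSpecΓ ≫ Spec.map (CommRingCat.ofHom ψ.toRingHom)) ≫ (pt R2 j).left = (z ≫ inc _).left :=
    fun j χ₁ z hz hb => by
      show (_ ≫ _) ≫ Spec.map (CommRingCat.ofHom j.toRingHom) ≫ hO.fromSpec = _
      rw [Category.assoc, ← Spec.map_comp_assoc, ← hz]
      congr 3
      ext b
      exact hb b
  let h : T₁ ⟶ T R2 := Over.homMk (T₁.left.toSpecΓ ≫ Spec.map (CommRingCat.ofHom ψ.toRingHom)) (by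
    calc (_ ≫ _) ≫ (T R2).hom
        = ((T₁.left.toSpecΓ ≫ Spec.map (CommRingCat.ofHom ψ.toRingHom)) ≫ (pt R2 ιl).left) ≫ P.hom := by
          conv_lhs => rw [← Over.w (pt R2 ιl)]
          simp only [Category.assoc]
      _ = (x ≫ inc _).left ≫ P.hom := by rw [hpz ιl χ x hχp hψl]
      _ = T₁.hom := Over.w _)
  have hl : h ≫ pt R2 ιl = x ≫ inc _ := Over.OverMorphism.ext (hpz ιl χ x hχp hψl)
  have hr' : h ≫ pt R2 ιr = x' ≫ inc _ := Over.OverMorphism.ext (hpz ιr χ' x' hχp' hψr)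
  let g₂ := Assoc.div a f hsq (pt R2 ιr) (pt R2 ιl) (hpφ R2 ιr ιl)
  have hg₂ : lift g₂ (pt R2 ιl) ≫ a.act = pt R2 ιr := Assoc.div_spec a f hsq _ _ _
  have hgg : g = h ≫ g₂ := by
    refine Assoc.div_unique a f hsq (x ≫ inc _) _ _ ?_
    rw [hxx', ← hl, ← comp_lift_assoc, hg₂, hr']
  refine mat_ext ?_
  rw [mat_mul, hχm, hχm', hgg, Category.assoc, mat_comp]
  have e1 : (mat (W := T R2) (g₂ ≫ ρ)).map h.left.appTop = (W R2 ιl ιr).map ψ := by
    rw [hWspec R2 ιl ιr g₂ hg₂, Matrix.map_map]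
    ext i j
    simp only [Matrix.map_apply, Function.comp_apply]
    show ((Spec.map (CommRingCat.ofHom ψ.toRingHom)).appTop ≫ T₁.left.toSpecΓ.appTop).hom _ = _
    rw [Scheme.toSpecΓ_appTop, Scheme.ΓSpecIso_naturality]
    rfl
  have e2 : m.map χ = (m.map ιl).map ψ := by
    ext i j
    exact (hψl _).symm
  have e3 : m.map χ' = (m.map ιr).map ψ := by
    ext i j
    exact (hψr _).symm
  rw [e1, e2, e3, ← hm, Matrix.map_mul]

end Groth.Agent.Assoc2
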