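import Groth.Agent.Assoc2.GLMap
import Groth.Agent.Assoc2.Multisection
import Groth.Agent.AffHull.GLn
import Groth.Agent.GLTorsorZar.Main
import Groth.Agent.MonoFactor.HomQuot
import Groth.Agent.Assoc.TorsorSquare

/-!
# Torsors under smooth affine groups over an algebraically closed field are locally isotrivial
-/

set_option autoImplicit false
set_option linter.style.haveILetI false
set_option backward.isDefEq.respectTransparency false
set_option backward.isDefEq.respectTransparency.types false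
set_option maxHeartbeats 1000000
set_option synthInstance.maxHeartbeats 400000

universe u

open CategoryTheory CategoryTheory.Limits MonoidalCategory CartesianMonoidalCategory GrpObj AlgebraicGeometry
open scoped CategoryTheory.MonObj
open Groth.Agent.GITss (opn inc)

noncomputable section

namespace Groth.Agent.Assoc2

attribute [-instance] instCommGrpObjSpecAsOverSpec isCommMonObj_spec_asOver_spec

variable {k : Type u} [Field k]

/-- Products of points with a homomorphism, evaluated. -/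
theorem lift_whisker_mul {F G T : Over (Spec (CommRingCat.of k))} [GrpObj G] (u : F ⟶ G) (h : T ⟶ F)
    (z : T ⟶ G) : lift h z ≫ (u ▷ G) ≫ μ[G] = (h ≫ u) * z := by
  rw [← Category.assoc, lift_whiskerRight, Hom.mul_def]

/-- The quotient map by a smooth subgroup is smooth. -/
theorem smooth_quotient {F G Q : Over (Spec (CommRingCat.of k))} [GrpObj G] [Smooth F.hom]
    (u : F ⟶ G) (p : G ⟶ Q) [Flat p.left] [Surjective p.left] [QuasiCompact p.left]
    (hsq : IsPullback ((u ▷ G) ≫ μ[G]) (snd F G) p p) : Smooth p.left := by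
  have hQ : (@Surjective ⊓ @Flat ⊓ @QuasiCompact : MorphismProperty Scheme.{u}) p.left :=
    ⟨⟨‹_›, ‹_›⟩, ‹_›⟩
  refine MorphismProperty.of_isPullback_of_descendsAlong (P := @Smooth) (hsq.map (Over.forget _)).flip hQ ?_
  change Smooth (pullback.snd F.hom G.hom)
  exact MorphismProperty.pullback_snd (P := @Smooth) _ _ ‹_›

variable [IsAlgClosed k]

/-- The quotient by a smooth subgroup, with multisections. -/
theorem exists_quotient_finEtSec {F G : Over (Spec (CommRingCat.of k))} [GrpObj F] [GrpObj G] [Smooth F.hom]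
    [LocallyOfFiniteType G.hom] [QuasiCompact G.hom] (u : F ⟶ G) [IsMonHom u] [IsClosedImmersion u.left] :
    ∃ (Q : Over (Spec (CommRingCat.of k))) (p : G ⟶ Q), IsSeparated Q.hom ∧ LocallyOfFiniteType Q.hom ∧
      Smooth p.left ∧ Surjective p.left ∧ QuasiCompact p.left ∧ IsPullback ((u ▷ G) ≫ μ[G]) (snd F G) p p ∧
      FinEtSec p.left := by
  obtain ⟨Q, p, hs, hf, -, hsq, hsep, hlft⟩ := MonoFactor.exists_quotient_point (RingHom.id k) (fun x => ⟨x, rfl⟩) u
  haveI := hs; haveI := hf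
  haveI : QuasiCompact p.left := by
    haveI : QuasiCompact (p.left ≫ Q.hom) := by rw [Over.w p]; infer_instance
    exact QuasiCompact.of_comp p.left Q.hom
  haveI := smooth_quotient u p hsq
  exact ⟨Q, p, hsep, hlft, inferInstance, hs, inferInstance, hsq, finEtSec_quotient u p hsq⟩

/-- **Local isotriviality of torsors under smooth affine groups.** -/
theorem finEtSec_torsor {G P Y : Over (Spec (CommRingCat.of k))} [GrpObj G] [IsAffine G.left] [Smooth G.hom]
    (a : AlgGrp.Action G P) (f : P ⟶ Y) [Flat f.left] [Surjective f.left] [QuasiCompact f.left]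
    (hsq : IsPullback a.act.left (snd G P).left f.left f.left) : FinEtSec f.left := by
  haveI : IsAffineHom G.hom := isAffineHom_of_isAffine _
  haveI : LocallyOfFiniteType G.hom := inferInstance
  haveI := isAffineHom_torsor a f hsq
  obtain ⟨n, ρ, hρ, hρc⟩ := AffHull.exists_closedImmersion_GLn G
  haveI := hρ; haveI := hρc
  haveI : Mono ρ := Over.mono_of_mono_left ρ
  let GLk := FrB.GLn n (Spec (CommRingCat.of k))
  haveI : IsAffineHom GLk.hom := GLTorsorZar.isAffineHom_GLn
  haveI : Algebra.FiniteType (ULift.{u} ℤ) (CoordGrp.GLb n (ULift.{u} ℤ)) :=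
    inferInstanceAs (Algebra.FiniteType (ULift.{u} ℤ) (MvPolynomial (CoordGrp.GLPoly.Idx n) (ULift.{u} ℤ)))
  haveI : LocallyOfFiniteType (FrB.GLZ.{u} n).hom := by
    haveI : LocallyOfFiniteType (Spec.map (CommRingCat.ofHom (algebraMap (ULift.{u} ℤ) (CoordGrp.GLn n (ULift.{u} ℤ))))) :=
      (HasRingHomProperty.Spec_iff (P := @LocallyOfFiniteType)).mpr
        (RingHom.finiteType_algebraMap.mpr
          (Algebra.FiniteType.of_surjective (R := ULift.{u} ℤ) (CoordGrp.GLn.mk n (ULift.{u} ℤ)) Ideal.Quotient.mk_surjective))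
    exact this
  haveI : LocallyOfFiniteType GLk.hom := by
    show LocallyOfFiniteType (pullback.snd _ _)
    exact MorphismProperty.pullback_snd (P := @LocallyOfFiniteType) _ _ inferInstance
  obtain ⟨Q, p, hsep, hlft, hps, hpj, hpqc, hpq, hfin⟩ := exists_quotient_finEtSec ρ
  haveI := hsep; haveI := hlft; haveI := hps; haveI := hpj; haveI := hpqc
  intro y
  obtain ⟨U, hyU, hU, r, hr⟩ := exists_GL_map a f hsq ρ y
  let W : P.left.Opens := f.left ⁻¹ᵁ U
  let fU : opn (X := P) W ⟶ opn (X := Y) U := Over.homMk (f.left ∣_ U) (by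
    show f.left ∣_ U ≫ U.ι ≫ Y.hom = W.ι ≫ P.hom
    rw [morphismRestrict_ι_assoc, Over.w])
  have hfU : fU ≫ inc U = inc W ≫ f := Over.OverMorphism.ext (morphismRestrict_ι f.left U)
  haveI : Flat fU.left := MorphismProperty.of_isPullback (P := @Flat) (isPullback_morphismRestrict f.left U).flip ‹_›
  haveI : Surjective fU.left :=
    MorphismProperty.of_isPullback (P := @Surjective) (isPullback_morphismRestrict f.left U).flip ‹_›
  haveI : QuasiCompact fU.left :=
    MorphismProperty.of_isPullback (P := @QuasiCompact) (isPullback_morphismRestrict f.left U).flip ‹_›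
  haveI : Mono (inc (X := P) W) := Over.mono_of_mono_left _
  have hρmul : ∀ {T : Over (Spec (CommRingCat.of k))} (g : T ⟶ G) (z : T ⟶ GLk), ((g ≫ ρ) * z) ≫ p = z ≫ p :=
    fun g z => by rw [← lift_whisker_mul, Category.assoc, hpq.w, lift_snd_assoc]
  -- the classifying morphism
  have hinv : ∀ (T : Over (Spec (CommRingCat.of k))) (z z' : T ⟶ opn (X := P) W), z ≫ fU = z' ≫ fU →
      ∃ g : T ⟶ G, lift g (z ≫ inc W) ≫ a.act = z' ≫ inc W ∧ z' ≫ r = (g ≫ ρ) * (z ≫ r) := fun T z z' h => by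
    have e : (z' ≫ inc W) ≫ f = (z ≫ inc W) ≫ f := by
      simp only [Category.assoc, ← hfU, reassoc_of% h]
    exact ⟨_, Assoc.div_spec a f hsq _ _ e, hr T _ z z' (Assoc.div_spec a f hsq _ _ e)⟩
  obtain ⟨c, hc⟩ := SpecialExt.exists_desc fU (r ≫ p) fun T z z' h => by
    obtain ⟨g, -, e⟩ := hinv T z z' h
    rw [← Category.assoc z', e, hρmul, Category.assoc]
  obtain ⟨N, N', q, t, hyN, hN, hq1, hq2, hq3, hqt⟩ := hfin (c.left ⟨y, hyU⟩)
  haveI := hq1; haveI := hq2; haveI := hq3
  obtain ⟨U₂, hU₂, hyU₂, hU₂le⟩ := exists_isAffineOpen_mem_and_subset (X := Y.left) (x := y)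
    (U := U.ι ''ᵁ (c.left ⁻¹ᵁ N)) ⟨⟨y, hyU⟩, hyN, rfl⟩
  have hle₂ : U₂ ≤ U := fun z hz => by
    obtain ⟨w, -, rfl⟩ := hU₂le hz
    exact w.2
  let i₂ : U₂.toScheme ⟶ U.toScheme := Y.left.homOfLE hle₂
  let c₂ : U₂.toScheme ⟶ N.toScheme := IsOpenImmersion.lift N.ι (i₂ ≫ c.left) (by
    rw [Scheme.Opens.range_ι]
    rintro _ ⟨z, rfl⟩
    obtain ⟨w, hw, hwz⟩ := hU₂le z.2
    have : i₂ z = w := U.ι.isOpenEmbedding.injective (by
      rw [← Scheme.Hom.comp_apply, Scheme.homOfLE_ι]
      exact hwz.symm)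
    show c.left (i₂ z) ∈ N
    rw [this]
    exact hw)
  have hc₂ : c₂ ≫ N.ι = i₂ ≫ c.left := IsOpenImmersion.lift_fac _ _ _
  let U' := pullback c₂ q
  let q' : U' ⟶ U₂.toScheme := pullback.fst c₂ q
  let base : Over.mk (q' ≫ i₂ ≫ (opn (X := Y) U).hom) ⟶ opn (X := Y) U := Over.homMk (q' ≫ i₂) (Category.assoc _ _ _)
  have hbase : (pullback.snd c₂ q ≫ t) ≫ p.left = base.left ≫ c.left := by
    show _ = (q' ≫ i₂) ≫ c.left
    rw [Category.assoc, hqt, ← pullback.condition_assoc, hc₂, Category.assoc]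
  let t₂ : Over.mk (q' ≫ i₂ ≫ (opn (X := Y) U).hom) ⟶ GLk := Over.homMk (pullback.snd c₂ q ≫ t) (by
    show (pullback.snd c₂ q ≫ t) ≫ GLk.hom = q' ≫ i₂ ≫ (opn (X := Y) U).hom
    rw [← Over.w p, ← Category.assoc _ p.left, hbase, Category.assoc, Over.w c]
    exact Category.assoc _ _ _)
  have ht₂ : t₂ ≫ p = base ≫ c := Over.OverMorphism.ext hbase
  obtain ⟨T, u, v, hu1, hu2, hu3, huv⟩ := Assoc.exists_cover_of fU base
  haveI := hu1; haveI := hu2; haveI := hu3
  obtain ⟨l, hl1, hl2⟩ := hpq.exists_lift (v ≫ r) (u ≫ t₂) (by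
    rw [Category.assoc, Category.assoc, ht₂, ← hc, reassoc_of% huv])
  let h := l ≫ fst G GLk
  have hh : (h ≫ ρ) * (u ≫ t₂) = v ≫ r := by
    rw [← lift_whisker_mul, show lift h (u ≫ t₂) = l from CartesianMonoidalCategory.hom_ext _ _ (by simp [h]) ((lift_snd _ _).trans hl2.symm)]
    exact hl1
  let s₀ : T ⟶ P := lift h⁻¹ (v ≫ inc W) ≫ a.act
  obtain ⟨s, hs⟩ := SpecialExt.exists_desc u s₀ fun R z z' hz => by
    have hzv : (z ≫ v) ≫ fU = (z' ≫ v) ≫ fU := by
      rw [Category.assoc, Category.assoc, huv, reassoc_of% hz]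
    obtain ⟨g, hg1, hg2⟩ := hinv R _ _ hzv
    have key : z' ≫ h = g * (z ≫ h) := by
      rw [← cancel_mono ρ, MonObj.mul_comp]
      refine mul_right_cancel (b := z ≫ u ≫ t₂) ?_
      have e := hg2
      rw [Category.assoc, Category.assoc, ← hh, MonObj.comp_mul, MonObj.comp_mul] at e
      rw [reassoc_of% hz] at e ⊢
      simp only [Category.assoc] at e ⊢
      rw [_root_.mul_assoc]
      exact e
    rw [Category.assoc] at hg1
    simp only [s₀, comp_lift_assoc, GrpObj.comp_inv, key, _root_.mul_inv_rev]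
    simp only [Category.assoc] at hg1
    rw [← hg1, ← GrpAct.mul_smul, inv_mul_cancel_right]
  refine ⟨U₂, U', q', s.left, hyU₂, hU₂, inferInstance, inferInstance, inferInstance, ?_⟩
  have hsf : s ≫ f = base ≫ inc U := by
    refine SpecialExt.cancel_cover u ?_
    rw [reassoc_of% hs, act_comp a f hsq, Category.assoc, ← hfU, reassoc_of% huv]
  have := congrArg CommaMorphism.left hsf
  refine this.trans ?_
  show (q' ≫ i₂) ≫ U.ι = _
  rw [Category.assoc, Scheme.homOfLE_ι]

end Groth.Agent.Assoc2
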