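import Groth.Agent.Assoc.Bundle
import Groth.Prelude.Def_W4bk4git07Quot
import Groth.Prelude.Def_ChGrp

/-!
# The product with the torsor is a torsor over the associated bundle
-/

set_option autoImplicit false
set_option linter.style.haveILetI false
set_option backward.isDefEq.respectTransparency false
set_option backward.isDefEq.respectTransparency.types false

universe u

open CategoryTheory CategoryTheory.Limits MonoidalCategory CartesianMonoidalCategory AlgebraicGeometry
open scoped CategoryTheory.MonObj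

noncomputable section

namespace Groth.Agent.Assoc2

open Groth.Agent Groth.Agent.Assoc

variable {S : Scheme.{u}} {G X Y Z W : Over S} [GrpObj G] (a : AlgGrp.Action G X)
  (b : AlgGrp.Action G Z) (f : X ⟶ Y) (hsq : IsPullback a.act.left (snd G X).left f.left f.left)
  (φ : X ⊗ Z ⟶ W) (ψ : W ⟶ Y)

/-- The invariance in the form of the associated bundle is invariance for the diagonal action. -/
theorem isInvariant_prod
    (heq : lift ((G ◁ fst X Z) ≫ a.act) ((G ◁ snd X Z) ≫ b.act) ≫ φ = snd G (X ⊗ Z) ≫ φ) :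
    GIT.IsInvariant (a.prod b) φ := by
  unfold GIT.IsInvariant
  rw [AlgGrp.Action.prod_act]
  exact heq

include hsq in
/-- `X × Z` is a torsor over the associated bundle, for the diagonal action. -/
theorem isPullback_prod_act (hinv : GIT.IsInvariant (a.prod b) φ)
    (hpb : IsPullback (fst X Z).left φ.left f.left ψ.left) :
    IsPullback (a.prod b).act (snd G (X ⊗ Z)) φ φ := by
  have hpbO : IsPullback (fst X Z) φ f ψ :=
    IsPullback.of_map (Over.forget S) (Over.OverMorphism.ext hpb.w) hpb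
  have hinv' : ∀ {T : Over S} (g : T ⟶ G) (z : T ⟶ X ⊗ Z),
      lift (lift g (z ≫ fst X Z) ≫ a.act) (lift g (z ≫ snd X Z) ≫ b.act) ≫ φ = z ≫ φ := fun g z => by
    have h := congr(lift g z ≫ $hinv)
    rw [lift_snd_assoc, ← Category.assoc] at h
    rw [← h, ← AlgGrp.Action.lift_prod_act, lift_comp_fst_snd]
  have hev : ∀ {T : Over S} (g : T ⟶ G) (z : T ⟶ X ⊗ Z), lift g z ≫ (a.prod b).act =
      lift (lift g (z ≫ fst X Z) ≫ a.act) (lift g (z ≫ snd X Z) ≫ b.act) := fun g z => by
    rw [← AlgGrp.Action.lift_prod_act, lift_comp_fst_snd]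
  have hlift : ∀ {T : Over S} (z z' : T ⟶ X ⊗ Z), z ≫ φ = z' ≫ φ →
      ∃ l : T ⟶ G ⊗ (X ⊗ Z), l ≫ (a.prod b).act = z ∧ l ≫ snd G (X ⊗ Z) = z' := by
    intro T z z' e
    have e₁ : (z ≫ fst X Z) ≫ f = (z' ≫ fst X Z) ≫ f := by
      simp only [Category.assoc, hpbO.w]
      rw [reassoc_of% e]
    refine ⟨lift (div a f hsq _ _ e₁) z', hpbO.hom_ext ?_ ?_, lift_snd _ _⟩
    · rw [hev, lift_fst]
      exact div_spec a f hsq _ _ e₁
    · rw [hev, hinv', e]
  have huniq : ∀ {T : Over S} (l l' : T ⟶ G ⊗ (X ⊗ Z)), l ≫ (a.prod b).act = l' ≫ (a.prod b).act →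
      l ≫ snd G (X ⊗ Z) = l' ≫ snd G (X ⊗ Z) → l = l' := by
    intro T l l' e₁ e₂
    apply CartesianMonoidalCategory.hom_ext _ _ ?_ e₂
    have key : ∀ m : T ⟶ G ⊗ (X ⊗ Z), (m ≫ (a.prod b).act) ≫ fst X Z =
        lift (m ≫ fst G (X ⊗ Z)) ((m ≫ snd G (X ⊗ Z)) ≫ fst X Z) ≫ a.act := fun m => by
      conv_lhs => rw [← lift_comp_fst_snd m, ← lift_comp_fst_snd (m ≫ snd G (X ⊗ Z)),
        AlgGrp.Action.lift_prod_act, lift_fst]
    have h := congr($e₁ ≫ fst X Z)
    rw [key, key, e₂] at h
    exact div_unique a f hsq _ _ _ h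
  refine ⟨⟨hinv⟩, ⟨PullbackCone.IsLimit.mk _ (fun s => (hlift s.fst s.snd s.condition).choose)
    (fun s => (hlift s.fst s.snd s.condition).choose_spec.1)
    (fun s => (hlift s.fst s.snd s.condition).choose_spec.2) (fun s m h₁ h₂ => huniq _ _ ?_ ?_)⟩⟩
  · rw [h₁, (hlift s.fst s.snd s.condition).choose_spec.1]
  · rw [h₂, (hlift s.fst s.snd s.condition).choose_spec.2]

/-- A cartesian square in `Over S` gives `PsiY` an isomorphism. -/
theorem isIso_psiY {P Q : Over S} {c : AlgGrp.Action G P} {q : P ⟶ Q} (hinv : GIT.IsInvariant c q)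
    (h : IsPullback c.act (snd G P) q q) : IsIso (GIT.PsiY c q hinv) := by
  have h' := h.map (Over.forget S)
  have : GIT.PsiY c q hinv = h'.isoPullback.hom := by
    apply pullback.hom_ext
    · rw [GIT.PsiY, pullback.lift_fst]; exact h'.isoPullback_hom_fst.symm
    · rw [GIT.PsiY, pullback.lift_snd]; exact h'.isoPullback_hom_snd.symm
  rw [this]; infer_instance

/-- A cartesian square in `Over S` along an equivariant isomorphism. -/
theorem isPullback_act_of_iso {P P' Q : Over S} {c : AlgGrp.Action G P} {c' : AlgGrp.Action G P'} (e : P' ≅ P)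
    {q : P ⟶ Q} (h : IsPullback c.act (snd G P) q q)
    (he : c'.act ≫ e.hom = (G ◁ e.hom) ≫ c.act) :
    IsPullback c'.act (snd G P') (e.hom ≫ q) (e.hom ≫ q) :=
  h.of_iso (whiskerLeftIso G e).symm e.symm e.symm (Iso.refl _)
    (by
      change c.act ≫ e.inv = (G ◁ e.inv) ≫ c'.act
      rw [← cancel_mono e.hom, Category.assoc, Category.assoc, e.inv_hom_id, Category.comp_id, he,
        whiskerLeft_inv_hom_assoc])
    (by simp)
    (by simp) (by simp)

end Groth.Agent.Assoc2
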