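import Groth.Agent.Assoc.Reduced
import Groth.Agent.FlatMor.ReducedDescent
import Groth.Agent.FpqcDescent.Sep
import Mathlib.AlgebraicGeometry.Morphisms.LocalFlatDescent

/-!
# Associated bundles of varieties are varieties
-/

set_option autoImplicit false
set_option linter.style.haveILetI false
set_option backward.isDefEq.respectTransparency false
set_option backward.isDefEq.respectTransparency.types false

universe u

open CategoryTheory CategoryTheory.Limits MonoidalCategory CartesianMonoidalCategory AlgebraicGeometry

noncomputable section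

namespace Groth.Agent.Assoc2

variable {k : Type u} [Field k] [IsAlgClosed k] {X Y Z W : Over (Spec (CommRingCat.of k))}

/-- The total space of an associated bundle of varieties is a variety. -/
theorem variety_of_isPullback [IsReduced X.left] [IsSeparated X.hom] [LocallyOfFiniteType X.hom]
    [QuasiCompact X.hom] [IsSeparated Y.hom] [LocallyOfFiniteType Y.hom] [IsReduced Z.left]
    [IsSeparated Z.hom] [LocallyOfFiniteType Z.hom] [QuasiCompact Z.hom]
    (f : X ⟶ Y) [Flat f.left] [Surjective f.left] (φ : X ⊗ Z ⟶ W) (ψ : W ⟶ Y)
    (hpb : IsPullback (fst X Z).left φ.left f.left ψ.left) :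
    IsReduced W.left ∧ IsSeparated W.hom ∧ LocallyOfFiniteType W.hom ∧ QuasiCompact W.hom := by
  haveI : QuasiCompact (f.left ≫ Y.hom) := by rw [Over.w]; infer_instance
  haveI : QuasiCompact f.left := QuasiCompact.of_comp f.left Y.hom
  have hQ : (@Surjective ⊓ @Flat ⊓ @QuasiCompact : MorphismProperty Scheme.{u}) f.left :=
    ⟨⟨‹_›, ‹_›⟩, ‹_›⟩
  have hsep : IsSeparated (fst X Z).left := by
    change IsSeparated (pullback.fst X.hom Z.hom)
    exact MorphismProperty.pullback_fst (P := @IsSeparated) _ _ ‹_›
  have hlft : LocallyOfFiniteType (fst X Z).left := by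
    change LocallyOfFiniteType (pullback.fst X.hom Z.hom)
    exact MorphismProperty.pullback_fst (P := @LocallyOfFiniteType) _ _ ‹_›
  haveI : IsSeparated ψ.left :=
    MorphismProperty.of_isPullback_of_descendsAlong (P := @IsSeparated) hpb hQ hsep
  haveI : LocallyOfFiniteType ψ.left :=
    MorphismProperty.of_isPullback_of_descendsAlong (P := @LocallyOfFiniteType) hpb hQ hlft
  haveI : Flat φ.left := MorphismProperty.of_isPullback hpb (inferInstance : Flat f.left)
  haveI : Surjective φ.left := MorphismProperty.of_isPullback hpb (inferInstance : Surjective f.left)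
  haveI : IsReduced (X ⊗ Z).left := Groth.Agent.Assoc.isReduced_pullback k X.hom Z.hom
  refine ⟨Groth.Agent.FlatMor.isReduced_of_flat_surjective φ.left, ?_, ?_, ?_⟩
  · rw [← Over.w ψ]; infer_instance
  · rw [← Over.w ψ]; infer_instance
  · haveI : QuasiCompact (X ⊗ Z).hom := by
      change QuasiCompact (pullback.fst X.hom Z.hom ≫ X.hom); infer_instance
    haveI : CompactSpace (X ⊗ Z).left := QuasiCompact.compactSpace_of_compactSpace (X ⊗ Z).hom
    haveI : CompactSpace W.left := ⟨by
      rw [← φ.left.surjective.range_eq]
      exact isCompact_range φ.left.continuous⟩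
    exact (HasAffineProperty.iff_of_isAffine (P := @QuasiCompact)).mpr ‹_›

end Groth.Agent.Assoc2
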