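import Groth.Agent.Assoc2.Bundle
import Groth.Agent.Assoc2.Isotrivial
import Groth.Agent.Assoc2.FAF
import Groth.Agent.Assoc2.Variety
import Groth.Agent.MonoFactor.HomogDim
import Groth.Agent.FppfSource.Scheme
import Groth.Agent.SmoothRed.Scheme
import Groth.Agent.Grpd.FlatComp

/-!
# Factoring a torsor through a closed subgroup
-/

set_option autoImplicit false
set_option linter.style.haveILetI false
set_option backward.isDefEq.respectTransparency false
set_option backward.isDefEq.respectTransparency.types false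
set_option maxHeartbeats 1000000
set_option synthInstance.maxHeartbeats 400000

universe u

open CategoryTheory CategoryTheory.Limits MonoidalCategory CartesianMonoidalCategory GrpObj AlgebraicGeometry
open scoped CategoryTheory.MonObj

noncomputable section

namespace Groth.Agent.Assoc2

open Groth.Agent Groth.Agent.Assoc

variable {k : Type u} [Field k] [IsAlgClosed k] {G H X Y : Over (Spec (CommRingCat.of k))} [GrpObj G] [GrpObj H]

/-- A torsor under a smooth affine group factors through a torsor under any smooth closed subgroup. -/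
theorem exists_factor [IsAffine G.left] [Smooth G.hom] [Smooth H.hom]
    (h : H ⟶ G) [IsMonHom h] [IsClosedImmersion h.left]
    [IsReduced X.left] [IsSeparated X.hom] [LocallyOfFiniteType X.hom] [QuasiCompact X.hom]
    [IsSeparated Y.hom] [LocallyOfFiniteType Y.hom]
    (a : AlgGrp.Action G X) (f : X ⟶ Y) [Flat f.left] [Surjective f.left]
    (hsq : IsPullback a.act.left (snd G X).left f.left f.left) :
    ∃ (Z : Over (Spec (CommRingCat.of k))) (φ : X ⟶ Z) (ψ : Z ⟶ Y),
      IsReduced Z.left ∧ IsSeparated Z.hom ∧ LocallyOfFiniteType Z.hom ∧ QuasiCompact Z.hom ∧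
      φ ≫ ψ = f ∧ Flat φ.left ∧ Surjective φ.left ∧
      IsPullback (a.restrict h).act.left (snd H X).left φ.left φ.left ∧ Smooth ψ.left ∧ Surjective ψ.left := by
  haveI : LocallyOfFiniteType G.hom := inferInstance
  haveI : IsAffineHom G.hom := isAffineHom_of_isAffine _
  haveI : QuasiCompact G.hom := inferInstance
  haveI : CompactSpace G.left := inferInstance
  haveI : QuasiCompact (f.left ≫ Y.hom) := by rw [Over.w]; infer_instance
  haveI : QuasiCompact f.left := QuasiCompact.of_comp f.left Y.hom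
  obtain ⟨Q, p, hsepQ, hlftQ, hpsm, hps, hpqc, hpsq, -⟩ := exists_quotient_finEtSec h
  haveI := hsepQ; haveI := hlftQ; haveI := hpsm; haveI := hps; haveI := hpqc
  haveI : LocallyOfFinitePresentation p.left := inferInstance
  haveI : CompactSpace Q.left := ⟨by
    rw [← p.left.surjective.range_eq]
    exact isCompact_range p.left.continuous⟩
  haveI : QuasiCompact Q.hom := (HasAffineProperty.iff_of_isAffine (P := @QuasiCompact)).mpr ‹_›
  haveI : Smooth (p.left ≫ Q.hom) := by rw [Over.w]; infer_instance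
  haveI : Smooth Q.hom := FppfSource.smooth p.left Q.hom
  haveI : IsReduced Q.left := SmoothRed.isReduced_of_smooth_scheme Q.hom
  obtain ⟨aQ, -, hev⟩ := MonoFactor.exists_homogeneous_action h p hpsq
  obtain ⟨W, φ₀, ψ, heq, hpb⟩ := exists_bundle a aQ f hsq (finEtSec_torsor a f hsq)
    (fun z => ⟨⊤, trivial, rfl, FAF.of_isAffineHom Q.left.topIso.hom (FAF.quotient h p hpsq)⟩)
  obtain ⟨h1, h2, h3, h4⟩ := variety_of_isPullback f φ₀ ψ hpb
  haveI := h2; haveI := h3
  have hpbO : IsPullback (fst X Q) φ₀ f ψ :=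
    IsPullback.of_map (Over.forget _) (Over.OverMorphism.ext hpb.w) hpb
  -- the base point
  let o : ∀ T : Over (Spec (CommRingCat.of k)), T ⟶ Q := fun T => (1 : T ⟶ G) ≫ p
  have ho : ∀ {T T' : Over (Spec (CommRingCat.of k))} (t : T ⟶ T'), t ≫ o T' = o T := fun t => by
    simp only [o, ← Category.assoc, MonObj.comp_one]
  have hpμ : ∀ {T : Over (Spec (CommRingCat.of k))} (l : T ⟶ H) (z : T ⟶ G),
      ((l ≫ h) * z) ≫ p = z ≫ p := fun l z => by
    rw [← lift_whisker_mul, Category.assoc, hpsq.w, lift_snd_assoc]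
  -- `φ₀` is invariant
  have hinv' : ∀ {T : Over (Spec (CommRingCat.of k))} (g : T ⟶ G) (x : T ⟶ X) (z : T ⟶ Q),
      lift (lift g x ≫ a.act) (lift g z ≫ aQ.act) ≫ φ₀ = lift x z ≫ φ₀ := fun g x z => by
    have hh := congr(lift g (lift x z) ≫ $heq)
    rw [lift_snd_assoc, ← Category.assoc] at hh
    rw [← hh, comp_lift, lift_whiskerLeft_assoc, lift_whiskerLeft_assoc, lift_fst, lift_snd]
  let φ : X ⟶ W := lift (𝟙 X) (o X) ≫ φ₀
  have hφ : ∀ {T : Over (Spec (CommRingCat.of k))} (x : T ⟶ X), x ≫ φ = lift x (o T) ≫ φ₀ := fun x => by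
    simp only [φ, ← Category.assoc, comp_lift, Category.comp_id, ho]
  -- the stabiliser of the base point
  have hfix : ∀ {T : Over (Spec (CommRingCat.of k))} (l : T ⟶ H), lift (l ≫ h) (o T) ≫ aQ.act = o T := fun l => by
    rw [show o _ = (1 : _ ⟶ G) ≫ p from rfl, hev, _root_.one_mul, ← GrpObj.inv_comp,
      ← _root_.mul_one (l⁻¹ ≫ h), hpμ]
  have hinvH : ∀ {T : Over (Spec (CommRingCat.of k))} (l : T ⟶ H) (x : T ⟶ X),
      (lift l x ≫ (a.restrict h).act) ≫ φ = x ≫ φ := fun l x => by
    rw [AlgGrp.Action.lift_restrict_act, hφ, hφ]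
    conv_lhs => rw [← hfix l]
    exact hinv' _ _ _
  have hlift : ∀ {T : Over (Spec (CommRingCat.of k))} (x x' : T ⟶ X), x ≫ φ = x' ≫ φ →
      ∃ l : T ⟶ H ⊗ X, l ≫ (a.restrict h).act = x ∧ l ≫ snd H X = x' := by
    intro T x x' e
    have e₁ : x ≫ f = x' ≫ f := by
      have e' := congr($e ≫ ψ)
      rw [hφ, hφ, Category.assoc, Category.assoc, ← hpbO.w, lift_fst_assoc, lift_fst_assoc] at e'
      exact e'
    let g := div a f hsq x x' e₁
    have hg : lift g (o T) ≫ aQ.act = o T := by
      have h3 : lift x (lift g (o T) ≫ aQ.act) = lift x (o T) := hpbO.hom_ext (by simp) (by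
        rw [hφ, hφ, ← hinv' g x' (o T), div_spec a f hsq x x' e₁] at e
        exact e.symm)
      simpa using congr($h3 ≫ snd X Q)
    rw [show o T = (1 : T ⟶ G) ≫ p from rfl, hev, _root_.one_mul] at hg
    obtain ⟨m, hm, hm'⟩ := hpsq.exists_lift g⁻¹ 1 hg
    have hm'' : lift (m ≫ fst H G) 1 = m := by rw [← hm', lift_comp_fst_snd]
    rw [← hm'', lift_whisker_mul, _root_.mul_one] at hm
    refine ⟨lift (m ≫ fst H G)⁻¹ x', ?_, lift_snd _ _⟩
    rw [AlgGrp.Action.lift_restrict_act, GrpObj.inv_comp, hm, _root_.inv_inv]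
    exact div_spec a f hsq x x' e₁
  have huniq : ∀ {T : Over (Spec (CommRingCat.of k))} (l l' : T ⟶ H ⊗ X),
      l ≫ (a.restrict h).act = l' ≫ (a.restrict h).act → l ≫ snd H X = l' ≫ snd H X → l = l' := by
    intro T l l' e₁ e₂
    apply CartesianMonoidalCategory.hom_ext _ _ ?_ e₂
    rw [← lift_comp_fst_snd l, ← lift_comp_fst_snd l', AlgGrp.Action.lift_restrict_act,
      AlgGrp.Action.lift_restrict_act, e₂] at e₁
    haveI : Mono h := Over.mono_of_mono_left h
    exact (cancel_mono h).1 (div_unique a f hsq _ _ _ e₁)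
  have hsqH : IsPullback (a.restrict h).act (snd H X) φ φ := by
    refine ⟨⟨?_⟩, ⟨PullbackCone.IsLimit.mk _ (fun s => (hlift s.fst s.snd s.condition).choose)
      (fun s => (hlift s.fst s.snd s.condition).choose_spec.1)
      (fun s => (hlift s.fst s.snd s.condition).choose_spec.2) (fun s m h₁ h₂ => huniq _ _ ?_ ?_)⟩⟩
    · have := hinvH (fst H X) (snd H X)
      rwa [lift_fst_snd, Category.id_comp] at this
    · rw [h₁, (hlift s.fst s.snd s.condition).choose_spec.1]
    · rw [h₂, (hlift s.fst s.snd s.condition).choose_spec.2]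
  -- `φ` is faithfully flat
  let e : X ⊗ G ≅ X ⊗ G :=
    ⟨lift (lift (snd X G) (fst X G) ≫ a.act) (snd X G),
      lift (lift (snd X G)⁻¹ (fst X G) ≫ a.act) (snd X G),
      CartesianMonoidalCategory.hom_ext _ _ (by
        rw [Category.assoc, lift_fst, comp_lift_assoc, GrpObj.comp_inv, lift_snd, lift_fst,
          ← GrpAct.mul_smul, inv_mul_cancel, GrpAct.one_smul', Category.id_comp]) (by simp),
      CartesianMonoidalCategory.hom_ext _ _ (by
        rw [Category.assoc, lift_fst, comp_lift_assoc, lift_snd, lift_fst,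
          ← GrpAct.mul_smul, mul_inv_cancel, GrpAct.one_smul', Category.id_comp]) (by simp)⟩
  have hcomp : (e.hom ≫ fst X G) ≫ φ = (X ◁ p) ≫ φ₀ := by
    rw [hφ, lift_fst]
    have hp1 : lift (snd X G) ((X ◁ p) ≫ snd X Q) ≫ aQ.act = o (X ⊗ G) := by
      rw [whiskerLeft_snd, hev, mul_inv_cancel]
    have hh := hinv' (snd X G) (fst X G) ((X ◁ p) ≫ snd X Q)
    rw [hp1] at hh
    rw [hh]
    congr 1
    apply CartesianMonoidalCategory.hom_ext <;> simp
  haveI : IsIso e.hom.left := Iso.isIso_hom ((Over.forget _).mapIso e)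
  haveI : Nonempty G.left := ⟨η[G].left (IsLocalRing.closedPoint k)⟩
  haveI : Surjective G.hom := ⟨fun s => ⟨Classical.arbitrary _, Subsingleton.elim _ _⟩⟩
  haveI : Flat (fst X G).left := by
    change Flat (pullback.fst X.hom G.hom); infer_instance
  haveI : Surjective (fst X G).left := by
    change Surjective (pullback.fst X.hom G.hom); infer_instance
  haveI : Flat φ₀.left := MorphismProperty.of_isPullback hpb (inferInstance : Flat f.left)
  haveI : Surjective φ₀.left := MorphismProperty.of_isPullback hpb (inferInstance : Surjective f.left)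
  obtain ⟨hXs, hXf, -⟩ := MonoFactor.cover_whiskerLeft X p
  haveI := hXs; haveI := hXf
  haveI : Flat ((e.hom ≫ fst X G).left ≫ φ.left) := by
    rw [← Over.comp_left, hcomp, Over.comp_left]; infer_instance
  haveI : Surjective ((e.hom ≫ fst X G).left ≫ φ.left) := by
    rw [← Over.comp_left, hcomp, Over.comp_left]; infer_instance
  haveI : Flat (e.hom ≫ fst X G).left := by rw [Over.comp_left]; infer_instance
  haveI : Surjective (e.hom ≫ fst X G).left := by rw [Over.comp_left]; infer_instance
  refine ⟨W, φ, ψ, h1, h2, h3, h4, ?_, GrpdLib.flat_of_flat_comp (e.hom ≫ fst X G).left φ.left,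
    Surjective.of_comp (e.hom ≫ fst X G).left φ.left, hsqH.map (Over.forget _), ?_, ?_⟩
  · rw [show φ = lift (𝟙 X) (o X) ≫ φ₀ from rfl, Category.assoc, ← hpbO.w, lift_fst_assoc, Category.id_comp]
  · have hQ : (@Surjective ⊓ @Flat ⊓ @QuasiCompact : MorphismProperty Scheme.{u}) f.left :=
      ⟨⟨‹_›, ‹_›⟩, ‹_›⟩
    refine MorphismProperty.of_isPullback_of_descendsAlong (P := @Smooth) hpb hQ ?_
    change Smooth (pullback.fst X.hom Q.hom); infer_instance
  · haveI : Surjective (φ.left ≫ ψ.left) := by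
      rw [← Over.comp_left, show φ ≫ ψ = f by
        rw [show φ = lift (𝟙 X) (o X) ≫ φ₀ from rfl, Category.assoc, ← hpbO.w, lift_fst_assoc, Category.id_comp]]
      infer_instance
    exact Surjective.of_comp φ.left ψ.left

end Groth.Agent.Assoc2
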