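import Groth.Agent.Assoc2.Bundle
import Groth.Agent.Assoc2.Isotrivial
import Groth.Agent.Assoc2.ProdTorsor
import Groth.Agent.Assoc2.Variety
import Groth.Agent.GrpAct.GeomQuot
import Groth.Agent.SmoothRed.Scheme
import Groth.Agent.ClosedRep.Over

/-!
# The balanced product `G ×^H X`
-/

set_option autoImplicit false
set_option linter.style.haveILetI false
set_option backward.isDefEq.respectTransparency false
set_option backward.isDefEq.respectTransparency.types false
set_option maxHeartbeats 1000000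
set_option synthInstance.maxHeartbeats 400000

universe u

open CategoryTheory CategoryTheory.Limits MonoidalCategory CartesianMonoidalCategory GrpObj AlgebraicGeometry
open scoped CategoryTheory.MonObj

noncomputable section

namespace Groth.Agent.Assoc2

open Groth.Agent Groth.Agent.Assoc

/-- A torsor trivialises over any section. -/
theorem isPullback_section {S : Scheme.{u}} {H P W T : Over S} [GrpObj H] {c : AlgGrp.Action H P} {q : P ⟶ W}
    (h : IsPullback c.act (snd H P) q q) (s : T ⟶ P) :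
    IsPullback (fst T H) (lift (snd T H) (fst T H ≫ s) ≫ c.act) (s ≫ q) q := by
  have hw : (lift (snd T H) (fst T H ≫ s) ≫ c.act) ≫ q = fst T H ≫ s ≫ q := by
    rw [Category.assoc, h.w, lift_snd_assoc, Category.assoc]
  refine ⟨⟨hw.symm⟩, ⟨PullbackCone.IsLimit.mk _
    (fun d => lift d.fst (h.lift d.snd (d.fst ≫ s) (by rw [Category.assoc, d.condition]) ≫ fst H P))
    (fun d => lift_fst _ _) (fun d => ?_) (fun d m h₁ h₂ => ?_)⟩⟩
  · rw [comp_lift_assoc, lift_snd, lift_fst_assoc]
    have e : lift (h.lift d.snd (d.fst ≫ s) (by rw [Category.assoc, d.condition]) ≫ fst H P) (d.fst ≫ s) =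
        h.lift d.snd (d.fst ≫ s) (by rw [Category.assoc, d.condition]) :=
      CartesianMonoidalCategory.hom_ext _ _ (by simp) (by simp)
    rw [e, IsPullback.lift_fst]
  · refine CartesianMonoidalCategory.hom_ext _ _ (by rw [h₁, lift_fst]) ?_
    rw [lift_snd, ← lift_fst (m ≫ snd T H) (m ≫ fst T H ≫ s)]
    congr 1
    apply h.hom_ext
    · rw [IsPullback.lift_fst, ← h₂, comp_lift_assoc]
    · rw [IsPullback.lift_snd, lift_snd, ← h₁, Category.assoc]

variable {k : Type u} [Field k] [IsAlgClosed k] {G H X : Over (Spec (CommRingCat.of k))} [GrpObj G] [GrpObj H]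

/-- The quotient of `G` by the right translations of a smooth closed subgroup. -/
theorem exists_quotient_right [Smooth G.hom] [QuasiCompact G.hom] [Smooth H.hom] (j : H ⟶ G) [IsMonHom j]
    [IsClosedImmersion j.left] :
    ∃ (Q : Over (Spec (CommRingCat.of k))) (π : G ⟶ Q), IsSeparated Q.hom ∧ LocallyOfFiniteType Q.hom ∧
      Smooth π.left ∧ Surjective π.left ∧ QuasiCompact π.left ∧
      IsPullback ((AlgGrp.Action.invRight G).restrict j).act (snd H G) π π ∧ FinEtSec π.left := by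
  obtain ⟨Q, p, h1, h2, h3, h4, h5, hsq, hfs⟩ := exists_quotient_finEtSec j
  haveI := h3; haveI := h4; haveI := h5
  let e : G ≅ G := ⟨GrpObj.inv, GrpObj.inv, GrpObj.inv_inv G ▸ by simp, by simp⟩
  haveI : IsIso e.hom.left := Iso.isIso_hom ((Over.forget _).mapIso e)
  refine ⟨Q, GrpObj.inv ≫ p, h1, h2, ?_, ?_, ?_, ?_, ?_⟩
  · rw [Over.comp_left]; change Smooth (e.hom.left ≫ p.left); infer_instance
  · rw [Over.comp_left]; change Surjective (e.hom.left ≫ p.left); infer_instance
  · rw [Over.comp_left]; change QuasiCompact (e.hom.left ≫ p.left); infer_instance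
  · refine hsq.of_iso (whiskerLeftIso H e).symm e.symm e.symm (Iso.refl _) ?_ (by simp [e]) (by simp [e]) (by simp [e])
    change ((j ▷ G) ≫ μ[G]) ≫ GrpObj.inv = (H ◁ GrpObj.inv) ≫ _
    apply AlgGrp.Action.hom_ext_lift₂
    intro T h g
    rw [lift_whiskerLeft_assoc, AlgGrp.Action.lift_restrict_act, AlgGrp.Action.lift_invRight_act,
      ← Category.assoc, lift_whisker_mul, ← Hom.inv_def, _root_.mul_inv_rev, ← Hom.inv_def]
  · intro y
    obtain ⟨U, U', q, t, hy, hU, hf, he, hs, ht⟩ := hfs y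
    refine ⟨U, U', q, t ≫ e.inv.left, hy, hU, hf, he, hs, ?_⟩
    rw [Over.comp_left, Category.assoc]
    change t ≫ e.inv.left ≫ e.hom.left ≫ p.left = _
    rw [← Over.comp_left_assoc, e.inv_hom_id, Over.id_left, Category.id_comp, ht]

/-- **The balanced product `G ×^H X`**, an isotrivial principal bundle and geometric quotient. -/
theorem exists_balanced [Smooth G.hom] [QuasiCompact G.hom] [Smooth H.hom] (j : H ⟶ G) [IsMonHom j]
    [IsClosedImmersion j.left] [LocallyOfFiniteType X.hom] [QuasiCompact X.hom] [IsSeparated X.hom]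
    [IsReduced X.left] (hF : FAF X.left) (aX : AlgGrp.Action H X) (b : AlgGrp.Action H (G ⊗ X))
    (hb : ∀ (T : Over (Spec (CommRingCat.of k))) (h : T ⟶ H) (g : T ⟶ G) (x : T ⟶ X),
      lift h (lift g x) ≫ b.act = lift (g * (h ≫ j)⁻¹) (lift h x ≫ aX.act)) :
    ∃ (Q : Over (Spec (CommRingCat.of k))) (q : G ⊗ X ⟶ Q) (hinv : GIT.IsInvariant b q),
      (LocallyOfFiniteType Q.hom ∧ QuasiCompact Q.hom ∧ IsSeparated Q.hom ∧ IsReduced Q.left) ∧
      (IsOpenMap q.left ∧ GIT.IsGeomQuot b q) ∧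
      (IsIso (GIT.PsiY b q hinv) ∧ Flat q.left) ∧
      ∀ y : ↥Q.left, ∃ (U : Q.left.Opens) (_ : y ∈ U) (U' : Scheme.{u}) (φ : U' ⟶ ↑U)
        (_ : IsFinite φ) (_ : Etale φ) (_ : Surjective φ) (s : Over.mk (φ ≫ U.ι ≫ Q.hom) ⟶ G ⊗ X),
        s.left ≫ q.left = φ ≫ U.ι ∧
        IsPullback (fst (Over.mk (φ ≫ U.ι ≫ Q.hom)) H).left
          (lift (snd (Over.mk (φ ≫ U.ι ≫ Q.hom)) H) (fst (Over.mk (φ ≫ U.ι ≫ Q.hom)) H ≫ s) ≫ b.act).left
          (φ ≫ U.ι) q.left := by
  haveI : LocallyOfFiniteType G.hom := inferInstance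
  haveI : IsSeparated G.hom := ClosedRep.isSeparated_of_field k G
  haveI : IsReduced G.left := SmoothRed.isReduced_of_smooth_scheme G.hom
  obtain ⟨Q₀, π, hQs, hQl, hπsm, hπs, hπqc, hπsq, hπfs⟩ := exists_quotient_right j
  haveI := hQs; haveI := hQl; haveI := hπsm; haveI := hπs; haveI := hπqc
  let r := (AlgGrp.Action.invRight G).restrict j
  have hsq : IsPullback r.act.left (snd H G).left π.left π.left := hπsq.map (Over.forget _)
  obtain ⟨W, q, ψ, heq, hpb⟩ := exists_bundle r aX π hsq hπfs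
    (fun z => ⟨⊤, trivial, rfl, FAF.of_isAffineHom X.left.topIso.hom hF⟩)
  obtain ⟨h1, h2, h3, h4⟩ := variety_of_isPullback π q ψ hpb
  have hact : b.act = (r.prod aX).act := by
    apply AlgGrp.Action.hom_ext_lift₂
    intro T h z
    rw [← lift_comp_fst_snd z, hb, AlgGrp.Action.lift_prod_act, AlgGrp.Action.lift_restrict_act,
      AlgGrp.Action.lift_invRight_act]
  have hT : IsPullback b.act (snd H (G ⊗ X)) q q := by
    rw [hact]; exact isPullback_prod_act r aX π hsq q ψ (isInvariant_prod r aX q heq) hpb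
  haveI : Smooth q.left := MorphismProperty.of_isPullback hpb hπsm
  haveI : Surjective q.left := MorphismProperty.of_isPullback hpb hπs
  haveI : QuasiCompact q.left := MorphismProperty.of_isPullback hpb hπqc
  refine ⟨W, q, hT.w, ⟨h3, h4, h2, h1⟩, ⟨q.left.isOpenMap, GeomQuot.isGeomQuot_of_isPullback b hT⟩,
    ⟨isIso_psiY hT.w hT, inferInstance⟩, fun y => ?_⟩
  obtain ⟨U₀, U', c, t, hy, -, hcf, hce, hcs, ht⟩ := hπfs (ψ.left y)
  haveI := hcf; haveI := hce; haveI := hcs
  let U := ψ.left ⁻¹ᵁ U₀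
  let φ' : pullback c (ψ.left ∣_ U₀) ⟶ U.toScheme := pullback.snd _ _
  have hw : (pullback.fst c (ψ.left ∣_ U₀) ≫ t) ≫ π.left = (φ' ≫ U.ι) ≫ ψ.left := by
    rw [Category.assoc, ht, pullback.condition_assoc, morphismRestrict_ι, Category.assoc]
  let s : Over.mk (φ' ≫ U.ι ≫ W.hom) ⟶ G ⊗ X := Over.homMk (hpb.lift _ _ hw) (by
    change hpb.lift _ _ hw ≫ (G ⊗ X).hom = _
    rw [← Over.w q, ← Category.assoc, hpb.lift_snd, Category.assoc]
    rfl)
  have hsl : s.left ≫ q.left = φ' ≫ U.ι := hpb.lift_snd _ _ hw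
  refine ⟨U, hy, _, φ', inferInstance, inferInstance, inferInstance, s, hsl, ?_⟩
  have h := (isPullback_section hT s).map (Over.forget _)
  have e : (Over.forget _).map (s ≫ q) = φ' ≫ U.ι := hsl
  rw [e] at h
  exact h

end Groth.Agent.Assoc2
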